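import Cfsg.Agent.Walter.Rot
import Cfsg.Agent.GenDihedral.Red.Unip
import Cfsg.Agent.S0280

/-!
The Sylow 2-subgroup of `PSL(2, 2^n)`.
-/

set_option autoImplicit false
set_option linter.unusedSectionVars false
set_option linter.style.haveILetI false

namespace Cfsg.Lib.Walter

open Subgroup Matrix Cfsg.Lib.GenDihedral Cfsg.Lib.Known.AutPSLn
open scoped MatrixGroups

universe u

section SL

variable {F : Type} [Field F] [Fintype F] [CharP F 2]

local notation "S2" => Matrix.SpecialLinearGroup (Fin 2) F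
local notation "M2" => Matrix (Fin 2) (Fin 2) F
local notation "U2" => upperUni (F := F) (n := 2)

theorem upS_inj {x y : F} (h : (upS x : S2) = upS y) : x = y := by
  simpa [upS] using congrFun (congrFun (congrArg Subtype.val h) 0) 1

theorem cent_upS {x : F} (hx : x ≠ 0) {m : S2} (hm : m * upS x = upS x * m) : m ∈ U2 := by
  have h : (m : M2) * !![1, x; 0, 1] = !![1, x; 0, 1] * (m : M2) := congrArg Subtype.val hm
  have e00 := congrFun (congrFun h 0) 0
  have e01 := congrFun (congrFun h 0) 1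
  simp [Matrix.mul_apply, Fin.sum_univ_two] at e00 e01
  have h10 : (m : M2) 1 0 = 0 := by
    rcases e00 with e | e
    · exact absurd e hx
    · exact e
  have hd := m.2
  rw [det_fin_two, h10, mul_zero, sub_zero] at hd
  have h11 : (m : M2) 1 1 = (m : M2) 0 0 := mul_left_cancel₀ hx (by linear_combination -e01)
  rw [h11] at hd
  have h00 : (m : M2) 0 0 = 1 := by
    have h2 : ((m : M2) 0 0 + 1) * ((m : M2) 0 0 + 1) = 0 := by
      have h2' : (2 : F) = 0 := CharTwo.two_eq_zero
      linear_combination hd + ((m : M2) 0 0 + 1) * h2'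
    have := mul_self_eq_zero.1 h2
    rwa [CharTwo.add_eq_zero] at this
  intro i j hij
  fin_cases i <;> fin_cases j <;> simp_all

theorem rot_upperUni : Rot (U2 : Subgroup S2) := by
  classical
  obtain ⟨g, hg⟩ := IsCyclic.exists_generator (α := Fˣ)
  let D : Fˣ → S2 := fun a => ⟨!![(a : F), 0; 0, ((a⁻¹ : Fˣ) : F)], by simp [det_fin_two]⟩
  have hD : ∀ (a : Fˣ) (x : F), D a * upS x * (D a)⁻¹ = upS ((a : F) * a * x) := by
    intro a x
    rw [mul_inv_eq_iff_eq_mul]
    refine Subtype.ext ?_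
    show (!![(a : F), 0; 0, ((a⁻¹ : Fˣ) : F)] : M2) * !![1, x; 0, 1] =
      !![1, (a : F) * a * x; 0, 1] * !![(a : F), 0; 0, ((a⁻¹ : Fˣ) : F)]
    ext i j
    fin_cases i <;> fin_cases j <;> simp [Matrix.mul_apply, Fin.sum_univ_two]
    field_simp
  have hpow : ∀ (k : ℕ) (x : F), D g ^ k * upS x * (D g ^ k)⁻¹ = upS ((((g * g) ^ k : Fˣ) : F) * x) := by
    intro k
    induction k with
    | zero => intro x; simp
    | succ k ih =>
      intro x
      rw [pow_succ' (D g), show D g * D g ^ k * upS x * (D g * D g ^ k)⁻¹ =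
        D g * (D g ^ k * upS x * (D g ^ k)⁻¹) * (D g)⁻¹ by group, ih, hD]
      congr 1
      rw [pow_succ', Units.val_mul, Units.val_mul]; ring
  have hcard : Nat.card U2 - 1 = orderOf (g * g) := by
    have hq : Nat.card U2 = Fintype.card F := by rw [card_upperUni]; simp
    have hog : orderOf g = Fintype.card F - 1 := by
      rw [orderOf_eq_card_of_forall_mem_zpowers hg, Nat.card_eq_fintype_card, Fintype.card_units]
    obtain ⟨m, -, hm⟩ := FiniteField.card F 2
    rw [hq, ← hog, ← pow_two, orderOf_pow' g two_ne_zero, Nat.Coprime.gcd_eq_one ?_, Nat.div_one]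
    rw [hog, hm, Nat.coprime_two_right]
    exact Nat.Even.sub_odd (Nat.one_le_two_pow) (Nat.even_pow.2 ⟨even_two, m.pos.ne'⟩) odd_one
  refine ⟨D g, ?_, ?_, ?_⟩
  · refine Cfsg.Lib.ZStarApps.mem_normalizer_of_maps fun x hx => ?_
    obtain ⟨a, rfl⟩ := mem_upperUni hx
    rw [hD]; exact upS_mem _
  · intro k hk x hx
    obtain ⟨a, rfl⟩ := mem_upperUni hx
    rw [hcard] at hk
    rw [hpow, orderOf_dvd_iff_pow_eq_one.1 hk, Units.val_one, one_mul]
  · intro k hk x hx h
    obtain ⟨a, rfl⟩ := mem_upperUni hx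
    rw [hcard] at hk
    rw [hpow] at h
    have h1 := upS_inj h
    by_contra hne
    have ha : a ≠ 0 := fun e => hne (by subst e; exact Subtype.ext (by
      show (!![1, 0; 0, 1] : M2) = 1
      exact Matrix.one_fin_two.symm))
    have h2 : (((g * g) ^ k : Fˣ) : F) = 1 := mul_right_cancel₀ ha (by rw [one_mul]; exact h1)
    exact hk (orderOf_dvd_iff_pow_eq_one.2 (Units.ext h2))

end SL

variable {L : Type u} [Group L] [Finite L]

/-- The facts used about `PSL(2, 2^n)`. -/
theorem binary_facts (h : IsBinaryPSL L) (P : Sylow 2 L) :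
    4 ≤ Nat.card ↥(P : Subgroup L) ∧ (∀ x ∈ P, x * x = 1) ∧ Rot (P : Subgroup L) ∧
      (∀ x ∈ P, x ≠ 1 → centralizer ({x} : Set L) = (P : Subgroup L)) ∧
      ∀ e : MulAut L, Odd (orderOf e) → (∀ x ∈ P, e x = x) → e = 1 := by
  classical
  haveI : Fact (Nat.Prime 2) := ⟨Nat.prime_two⟩
  obtain ⟨F, iF, iFt, ⟨n, hn, hcardF⟩, ⟨f⟩⟩ := h
  letI := iF; letI := iFt
  haveI : CharP F 2 := by
    obtain ⟨p, hp⟩ := CharP.exists F
    obtain ⟨m, hprime, hm⟩ := FiniteField.card F p
    have : p = 2 := by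
      have h2 : p ∣ 2 ^ n := hcardF ▸ hm ▸ dvd_pow_self p m.pos.ne'
      exact (Nat.prime_dvd_prime_iff_eq hprime Nat.prime_two).1 (hprime.dvd_of_dvd_pow h2)
    exact this ▸ hp
  let e₀ : L ≃* Matrix.SpecialLinearGroup (Fin 2) F := f.trans slEquiv.symm
  obtain ⟨Q, hQ⟩ := exists_sylow_upperUni (F := F) (n := 2) 2
  obtain ⟨a, ha⟩ := MulAction.exists_smul_eq (Matrix.SpecialLinearGroup (Fin 2) F)
    (P.mapSurjective (f := e₀.toMonoidHom) e₀.surjective) Q
  let φ : L ≃* Matrix.SpecialLinearGroup (Fin 2) F := e₀.trans (MulAut.conj a)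
  have hP : (P : Subgroup L).map φ.toMonoidHom = upperUni := by
    rw [← hQ, ← ha]
    exact (Subgroup.map_map (P : Subgroup L) (MulAut.conj a).toMonoidHom e₀.toMonoidHom).symm
  have hmem : ∀ x, x ∈ P ↔ φ x ∈ upperUni (F := F) (n := 2) := fun x => by
    rw [← hP]; exact (mem_map_iff_mem φ.injective).symm
  have hcent : ∀ m : L, ∀ x ∈ P, x ≠ 1 → m * x = x * m → m ∈ P := by
    intro m x hx hx1 hm
    rw [hmem] at hx ⊢
    obtain ⟨b, hb⟩ := mem_upperUni hx
    refine cent_upS (x := b) (fun e => hx1 (φ.injective ?_)) (by rw [← hb, ← map_mul, hm, map_mul])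
    rw [hb, e, map_one]
    exact Subtype.ext Matrix.one_fin_two.symm
  have hsq : ∀ x ∈ P, x * x = 1 := fun x hx => φ.injective (by
    rw [map_mul, map_one]
    exact sylow_sq Q (show φ x ∈ (Q : Subgroup _) from hQ.symm ▸ (hmem x).1 hx))
  have hcard : Nat.card ↥(P : Subgroup L) = 2 ^ n := by
    rw [← card_map_of_injective (f := φ.toMonoidHom) φ.injective (K := (P : Subgroup L)), hP, card_upperUni, hcardF, ← pow_mul]
    simp
  have h4 : 4 ≤ Nat.card ↥(P : Subgroup L) := hcard ▸ (Nat.pow_le_pow_right two_pos hn :)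
  refine ⟨h4, hsq, ?_, fun x hx hx1 => le_antisymm (fun m hm => hcent m x hx hx1
      (mem_centralizer_singleton_iff.1 hm)) fun m hm => ?_, ?_⟩
  · have := (rot_upperUni (F := F)).map φ.symm
    rwa [← hP, Subgroup.map_map, show φ.symm.toMonoidHom.comp φ.toMonoidHom = MonoidHom.id L from
      MonoidHom.ext φ.symm_apply_apply, Subgroup.map_id] at this
  · obtain ⟨b, hb⟩ := mem_upperUni ((hmem m).1 hm)
    obtain ⟨c, hc⟩ := mem_upperUni ((hmem x).1 hx)
    refine mem_centralizer_singleton_iff.2 (φ.injective ?_)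
    rw [map_mul, map_mul, hb, hc]
    refine Subtype.ext ?_
    show (!![1, b; 0, 1] : Matrix (Fin 2) (Fin 2) F) * !![1, c; 0, 1] = !![1, c; 0, 1] * !![1, b; 0, 1]
    ext i j; fin_cases i <;> fin_cases j <;> simp [Matrix.mul_apply, Fin.sum_univ_two, add_comm]
  · intro e he hfix
    obtain ⟨m, hm⟩ := inner_of_fix_sylow (MulAut.congr φ e) Q fun y hy => by
      rw [hQ] at hy
      obtain ⟨x, hx, rfl⟩ := hP.ge hy
      show φ (e (φ.symm (φ x))) = φ x
      rw [φ.symm_apply_apply, hfix x hx]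
    set m' := φ.symm m
    have hem : e = MulAut.conj m' := MulEquiv.ext fun y => φ.injective (by
      have h1 := MulEquiv.ext_iff.1 hm (φ y)
      change φ (e (φ.symm (φ y))) = m * φ y * m⁻¹ at h1
      rw [φ.symm_apply_apply] at h1
      rw [h1, MulAut.conj_apply, map_mul, map_mul, map_inv, φ.apply_symm_apply])
    haveI : Nontrivial ↥(P : Subgroup L) := Finite.one_lt_card_iff_nontrivial.1 (by omega)
    obtain ⟨⟨x, hx⟩, hx1⟩ := exists_ne (1 : ↥(P : Subgroup L))
    have hx1' : x ≠ 1 := fun e => hx1 (Subtype.ext e)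
    have hmP : m' ∈ P := hcent m' x hx hx1' (mul_inv_eq_iff_eq_mul.1 (by
      rw [← MulAut.conj_apply, ← hem]; exact hfix x hx))
    have h2 : e ^ 2 = 1 := by rw [hem, ← map_pow, pow_two, hsq m' hmP, map_one]
    obtain ⟨j, hj⟩ := he
    calc e = e ^ (2 * j + 1) := by rw [pow_succ, pow_mul, h2, one_pow, one_mul]
      _ = 1 := by rw [← hj, pow_orderOf_eq_one]

end Cfsg.Lib.Walter
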