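import Cfsg.Agent.Walter.RankThree.Main
import Cfsg.Agent.Walter.Big.Main
import Cfsg.Agent.BenderSE.AbelianSylow.Main
import Cfsg.Agent.FourGroupGW.Main

/-!
Walter's theorem: assembly of the pieces by induction on the order.
-/

set_option autoImplicit false
set_option linter.unusedSectionVars false
set_option linter.style.haveILetI false

namespace Cfsg.Lib.Walter

open Subgroup

universe u

/-- The case of solvable centralisers of involutions. -/
theorem typed_of_solvable_centralizers {X : Type u} [Group X] [Finite X] [IsSimpleGroup X]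
    (nab : ¬ IsMulCommutative X) (ab : AbTwo X) (four : GWFour.FourGroupProp.{u})
    (hC : ∀ t : X, orderOf t = 2 → Group.IsSolvable ↥(centralizer ({t} : Set X))) : Typed X := by
  haveI : Fact (Nat.Prime 2) := ⟨Nat.prime_two⟩
  have hns : ¬ Group.IsSolvable X := fun h =>
    nab ⟨⟨IsSimpleGroup.comm_iff_isSolvable.2 h⟩⟩
  have hcore : Cfsg.oddCore X = ⊥ :=
    (inferInstance : (Cfsg.oddCore X).Normal).eq_bot_or_eq_top.resolve_right fun h => by
      have ho := BenderSE.Ring2.odd_oddCore (G := X)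
      rw [h, card_top] at ho
      exact hns (Cfsg.Agent.PF.isSolvable_of_odd _ ho)
  let S : Sylow 2 X := default
  rcases BenderSE.AbSyl.solvable_centralizers_abelian four BenderSE.regProp S
    ⟨⟨fun a b => Subtype.ext (ab S a a.2 b b.2)⟩⟩ hC with h | ⟨F, i1, i2, hF, N, hN, ⟨f⟩, hc⟩
  · exact absurd h hns
  let e : X ⧸ Cfsg.oddCore X ≃* X :=
    (QuotientGroup.quotientMulEquivOfEq hcore).trans QuotientGroup.quotientBot
  haveI : Nontrivial (X ⧸ Cfsg.oddCore X) := e.toEquiv.nontrivial
  haveI : IsSimpleGroup (X ⧸ Cfsg.oddCore X) := IsSimpleGroup.isSimpleGroup_of_surjective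
    e.symm.toMonoidHom e.symm.surjective
  have hNtop : N = ⊤ := hN.eq_bot_or_eq_top.resolve_left fun h => by
    subst h
    obtain ⟨x, hx⟩ := exists_ne (1 : X ⧸ Cfsg.oddCore X)
    have h1 : x ∈ centralizer ((⊥ : Subgroup (X ⧸ Cfsg.oddCore X)) : Set (X ⧸ Cfsg.oddCore X)) :=
      mem_centralizer_iff.2 fun y hy => by rw [mem_bot.1 hy, one_mul, mul_one]
    rw [hc, mem_bot] at h1
    exact hx h1
  subst hNtop
  have g : X ≃* Matrix.ProjectiveSpecialLinearGroup (Fin 2) F :=
    e.symm.trans (Subgroup.topEquiv.symm.trans f)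
  rcases hF with ⟨h8, h5⟩ | hn
  · exact Or.inr (Or.inl ⟨F, i1, i2, h8, h5, ⟨g⟩⟩)
  · exact Or.inl ⟨F, i1, i2, hn, ⟨g⟩⟩

/-- Walter's theorem from the split into the two branches. -/
theorem walterProp_of_split (hsplit : ∀ (G : Type u) [Group G] [Finite G], SplitSpec G) :
    WalterProp.{u} := by
  suffices h : ∀ n, Below.{u} n from fun X _ _ _ nab ab => h (Nat.card X + 1) X nab ab (Nat.lt_succ_self _)
  intro n
  induction n with
  | zero => exact fun X _ _ _ _ _ hlt => absurd hlt (Nat.not_lt_zero _)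
  | succ n ih =>
    intro X _ _ _ nab ab hlt
    rcases Nat.lt_succ_iff_lt_or_eq.1 hlt with hlt' | heq
    · exact ih X nab ab hlt'
    by_cases hC : ∀ t : X, orderOf t = 2 → Group.IsSolvable ↥(centralizer ({t} : Set X))
    · exact typed_of_solvable_centralizers nab ab GW.fourGroupProp hC
    push Not at hC
    have hm : Min X := ⟨inferInstance, nab, ab, by rw [heq]; exact ih, GW.fourGroupProp⟩
    let S : Sylow 2 X := default
    obtain ⟨hL, hT | hbig⟩ := hsplit X hm S hC
    · exact Or.inr (Or.inr (threeSpec hm S hL hT))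
    · exact (bigSpec hm S hL hC hbig).elim

end Cfsg.Lib.Walter
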