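import Cfsg.Agent.Walter.LocalQuot
import Cfsg.Agent.Components.TwoCompPair.Setting

/-!
L-balance along `Z_L`: a 2-component of `C(t)` goes into a 2-component of `C(b)`, `b ∈ Z_L`.
-/

set_option autoImplicit false
set_option linter.unusedSectionVars false
set_option linter.style.haveILetI false

namespace Cfsg.Lib.Walter

open Subgroup Cfsg.Lib.Components Cfsg.Lib.ZStarApps

universe u

variable {G : Type u} [Group G] [Finite G]

private theorem mem_norm_inf {A B : Subgroup G} {g : G} (hA : g ∈ normalizer (A : Set G))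
    (hB : g ∈ normalizer (B : Set G)) : g ∈ normalizer ((A ⊓ B : Subgroup G) : Set G) :=
  mem_normalizer_of_maps fun x hx =>
    ⟨(mem_normalizer_iff.1 hA x).1 hx.1, (mem_normalizer_iff.1 hB x).1 hx.2⟩

theorem Loc.lift_comp {S : Sylow 2 G} {t : G} (h : Loc S t) (hsq : ∀ x ∈ S, x * x = 1) {L : Subgroup G}
    {b : G} (hL : IsComp t L) (hb : b ∈ ZL (S : Subgroup G) L) (hb1 : b ≠ 1) :
    ∃ K, IsComp b K ∧ ZL (S : Subgroup G) K ≤ ZL (S : Subgroup G) L ∧
      (S : Subgroup G) ⊓ L ≤ (S : Subgroup G) ⊓ K ∧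
        L ⊓ centralizer ({b} : Set G) ≤ K ⊔ Oc b ⊔ (Oc t ⊓ centralizer ({b} : Set G)) := by
  classical
  haveI : Fact (Nat.Prime 2) := ⟨Nat.prime_two⟩
  have hb2 : orderOf b = 2 := orderOf_eq_prime (by rw [pow_two]; exact hsq b hb.1) hb1
  have h' : Loc S b := ⟨h.min, hb.1, hb2⟩
  set Ct := centralizer ({t} : Set G) with hCt
  set Cb := centralizer ({b} : Set G) with hCb
  set D := L ⊓ Cb with hD
  have hDt : D ≤ Ct := inf_le_left.trans hL.1
  have hDb : D ≤ Cb := inf_le_right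
  let f : ↥D →* Qt t := (qm t).comp (inclusion hDt)
  let g : ↥D →* Qt b := (qm b).comp (inclusion hDb)
  -- fixed points: `D` covers `L` modulo the core
  have hA : IsPGroup 2 ↥(zpowers b) := IsPGroup.of_card (n := 1) (by rw [Nat.card_zpowers, hb2, pow_one])
  have hrange : f.range = bar t L := by
    refine le_antisymm ?_ ?_
    · rintro _ ⟨d, rfl⟩
      exact ⟨inclusion hDt d, d.2.1, rfl⟩
    · rintro _ ⟨⟨l, hlC⟩, hl, rfl⟩
      have hl' : l ∈ L := hl
      have hnN : ∀ x ∈ Ct, x ∈ normalizer (L : Set G) → x ∈ normalizer ((Oc t ⊓ L : Subgroup G) : Set G) :=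
        fun x hx hxL => mem_norm_inf (centralizer_le_normalizer_centralizerPPrimeCore t hx) hxL
      have hcop : (Nat.card ↥(zpowers b)).Coprime (Nat.card ↥(Oc t ⊓ L : Subgroup G)) := by
        rw [Nat.card_zpowers, hb2]
        exact ((centralizerPPrimeCore_card_coprime t).coprime_dvd_left (card_dvd_of_le inf_le_left)).symm
      obtain ⟨n, hn, hfix⟩ := Cfsg.Lib.Coprime.exists_fixed_of_commutator_mem (A := zpowers b)
        (N := Oc t ⊓ L) (zpowers_le.2 (hnN b (h.le hb.1) (h.le_norm hL hb.1))) hcop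
        (Or.inl (have := hA.isNilpotent; inferInstance)) (hnN l hlC (le_normalizer hl')) fun a ha => by
          obtain ⟨haS, haT⟩ := (h.mem_ZL_iff hL).1 (zpowers_le.2 hb ha)
          exact ⟨haT l hl', L.mul_mem ((mem_normalizer_iff.1 (h.le_norm hL haS) l).1 hl') (L.inv_mem hl')⟩
      refine ⟨⟨l * n, mul_mem hl' hn.2, mem_centralizer_singleton_iff.2
        (mem_centralizer_iff.1 hfix b (mem_zpowers b)).symm⟩, ?_⟩
      obtain ⟨hnC, hne⟩ := mem_Oc.1 hn.1
      show qm t (⟨l, hlC⟩ * ⟨n, hnC⟩) = qm t ⟨l, hlC⟩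
      rw [map_mul, hne, mul_one]
  haveI hsimp : IsSimpleGroup ↥f.range := by
    rw [hrange]; exact (comp_simple h.coreFree (h.comp hL)).1
  set f' := f.rangeRestrict with hf'
  have hf's : Function.Surjective f' := f.rangeRestrict_surjective
  -- the kernel is the core of `D`
  have hker : f.ker = Cfsg.pPrimeCore 2 ↥D := by
    refine le_antisymm (le_pPrimeCore ?_) ?_
    · refine (centralizerPPrimeCore_card_coprime t).coprime_dvd_left ?_
      rw [Nat.card_congr (f.ker.equivMapOfInjective D.subtype D.subtype_injective).toEquiv]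
      refine card_dvd_of_le ?_
      rintro _ ⟨x, hx, rfl⟩
      exact mem_Oc.2 ⟨hDt x.2, MonoidHom.mem_ker.1 hx⟩
    · rcases IsSimpleGroup.eq_bot_or_eq_top_of_normal _ ((pPrimeCore_normal' (G := ↥D) 2).map f' hf's) with e | e
      · rw [Subgroup.map_eq_bot_iff, hf', MonoidHom.ker_rangeRestrict] at e; exact e
      · exfalso
        have h1 : (Nat.card ↥f.range).Coprime 2 := by
          rw [← card_top (G := ↥f.range), ← e]
          exact (coprime_card_pPrimeCore (G := ↥D) 2).coprime_dvd_left (card_map_dvd _ _)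
        rw [hrange] at h1
        exact (Nat.Prime.coprime_iff_not_dvd Nat.prime_two).1 h1.symm
          (comp_dvd_card h.coreFree.core (h.comp hL))
  set R := Cfsg.pLayer 2 ↥D with hR
  haveI hRn : R.Normal := pLayer_normal
  have hsup : R ⊔ f.ker = ⊤ := by
    have hT : Cfsg.IsComponent (⊤ : Subgroup (↥D ⧸ Cfsg.pPrimeCore 2 ↥D)) :=
      ⟨Subgroup.Normal.isSubnormal inferInstance, qs_congr' ((MulEquiv.subgroupCongr hrange.symm).trans
        ((QuotientGroup.quotientKerEquivRange f).symm.trans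
          ((QuotientGroup.quotientMulEquivOfEq hker).trans Subgroup.topEquiv.symm))) (h.comp hL).2⟩
    have h1 : R.map (QuotientGroup.mk' (Cfsg.pPrimeCore 2 ↥D)) = ⊤ := by
      rw [hR, pLayer_map_q]; exact top_unique (comp_le_layer hT)
    rw [hker, ← comap_map_q, h1, comap_top]
  have hfR : ∀ d : ↥D, ∃ r ∈ R, f r = f d := fun d => by
    obtain ⟨r, hr, o, ho, rfl⟩ := mem_sup_of_normal_right.1 (hsup ▸ mem_top d)
    exact ⟨r, hr, by rw [map_mul, MonoidHom.mem_ker.1 ho, mul_one]⟩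
  -- subgroups normalised by the layer of `D`
  have hkey : ∀ N : Subgroup ↥D, N ≤ R → R ≤ normalizer (N : Set ↥D) → N ≤ f.ker ∨ R ≤ N := by
    intro N hNR hRN
    have hn : (N.map f').Normal := ⟨fun n hn y => by
      obtain ⟨x, hx, rfl⟩ := hn
      obtain ⟨d, rfl⟩ := hf's y
      obtain ⟨r, hr, hre⟩ := hfR d
      refine ⟨r * x * r⁻¹, (mem_normalizer_iff.1 (hRN hr) x).1 hx, ?_⟩
      have he : f' r = f' d := Subtype.ext hre
      rw [map_mul, map_mul, map_inv, he]⟩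
    rcases IsSimpleGroup.eq_bot_or_eq_top_of_normal _ hn with e | e
    · left; rw [Subgroup.map_eq_bot_iff, hf', MonoidHom.ker_rangeRestrict] at e; exact e
    · right
      have h1 := congrArg (Subgroup.comap f') e
      rw [comap_map_eq, comap_top, hf', MonoidHom.ker_rangeRestrict, hker] at h1
      refine sSup_le fun K hK => pcomp_le_of_image_le hK
        (isSubnormal_of_normal_in hRn.isSubnormal hNR hRN) ?_
      refine (map_mono le_top).trans_eq ?_
      rw [← h1, Subgroup.map_sup, QuotientGroup.map_mk'_self, sup_bot_eq]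
  -- elements of the layer of `D` which are central modulo the core
  have hcen : ∀ p : ↥D, (∀ m ∈ R, f (p * m * p⁻¹ * m⁻¹) = 1) → f p = 1 := by
    intro p hp
    refine mem_bot.1 ((comp_center h.coreFree (h.comp hL)).le
      ⟨hrange.le (MonoidHom.mem_range.2 ⟨p, rfl⟩), mem_centralizer_iff.2 fun y hy => ?_⟩)
    obtain ⟨d, rfl⟩ := MonoidHom.mem_range.1 (hrange.ge hy)
    obtain ⟨r, hr, hre⟩ := hfR d
    have h1 := hp r hr
    rw [map_mul, map_mul, map_mul, map_inv, map_inv, mul_inv_eq_one, mul_inv_eq_iff_eq_mul, hre] at h1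
    exact h1.symm
  -- L-balance
  have hlay : ∀ x ∈ R, g x ∈ Cfsg.layer (Qt b) := by
    intro x hx
    have hsn : (D.subgroupOf (Cb ⊓ Ct)).IsSubnormal := by
      have he : D.subgroupOf (Cb ⊓ Ct) = (L.subgroupOf Ct).comap (inclusion (inf_le_right : Cb ⊓ Ct ≤ Ct)) := by
        ext y
        simp only [mem_subgroupOf, mem_comap, hD, mem_inf, coe_inclusion]
        exact and_iff_left y.2.1
      rw [he]; exact hL.2.1.comap _
    obtain ⟨y, hy, hye⟩ := TwoCompPair.LL_le_L (u := b) (w := t) (hsq t h.mem)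
      (h.min.ab S t h.mem b hb.1)
      (TwoCompPair.pLayerOf_mono (le_inf hDb hDt) hsn (mem_map_of_mem D.subtype hx))
    have he : inclusion hDb x = y := Subtype.ext hye.symm
    show qm b (inclusion hDb x) ∈ _
    rw [he, ← pLayer_map_q]
    exact mem_map_of_mem _ hy
  have hnormG : ∀ H : Subgroup (Qt b), Cfsg.layer (Qt b) ≤ normalizer (H : Set (Qt b)) →
      R ≤ normalizer ((R ⊓ H.comap g : Subgroup ↥D) : Set ↥D) := fun H hH r hr =>
    mem_norm_inf (le_normalizer hr) (mem_normalizer_of_maps fun x hx => by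
      rw [mem_comap, map_mul, map_mul, map_inv]
      exact (mem_normalizer_iff.1 (hH (hlay r hr)) _).1 hx)
  -- the Sylow subgroup of `L` lies in the layer of `D`
  have hPR : ∀ p (hp : p ∈ (S : Subgroup G) ⊓ L), (⟨p, hp.2, h'.le hp.1⟩ : ↥D) ∈ R := by
    intro p hp
    set p' : ↥D := ⟨p, hp.2, h'.le hp.1⟩ with hp'
    obtain ⟨r, hr, o, ho, hro⟩ := mem_sup_of_normal_right.1 (hsup ▸ mem_top p')
    rw [← QuotientGroup.eq_one_iff (N := R)]
    have hq : QuotientGroup.mk' R p' = QuotientGroup.mk' R o := by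
      rw [← hro, map_mul, show QuotientGroup.mk' R r = 1 from (QuotientGroup.eq_one_iff r).2 hr, one_mul]
    have h2 : orderOf (QuotientGroup.mk' R p') ∣ 2 := (orderOf_map_dvd _ p').trans
      (orderOf_dvd_of_pow_eq_one (Subtype.ext (by rw [pow_two]; exact hsq p hp.1)))
    have hodd : (orderOf (QuotientGroup.mk' R p')).Coprime 2 := by
      rw [hq]
      exact (hker ▸ coprime_card_pPrimeCore (G := ↥D) 2 : (Nat.card ↥f.ker).Coprime 2).coprime_dvd_left
        ((orderOf_map_dvd _ o).trans (Subgroup.orderOf_dvd_natCard _ ho))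
    exact orderOf_eq_one_iff.1 (Nat.eq_one_of_dvd_coprimes hodd dvd_rfl h2)
  obtain ⟨p₀, hp₀, hp₀1⟩ : ∃ p ∈ (S : Subgroup G) ⊓ L, p ≠ 1 := by
    by_contra hcon
    push Not at hcon
    have h1 : (S : Subgroup G) ⊓ L = ⊥ := eq_bot_iff.2 fun p hp => mem_bot.2 (hcon p hp)
    have h4 := Cfsg.Lib.Walter.card_inf h.coreFree (h.comp hL)
    rw [← h.card_inf hL, h1, Subgroup.card_bot] at h4
    omega
  have hgker : ∀ x ∈ R, g x = 1 → f x = 1 := by
    intro x hx hgx
    rcases hkey (R ⊓ g.ker) inf_le_left fun r hr => mem_norm_inf (le_normalizer hr)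
        ((normalizer_eq_top g.ker).symm ▸ mem_top r) with e | e
    · exact MonoidHom.mem_ker.1 (e ⟨hx, hgx⟩)
    · exact absurd (h'.eq_one hp₀.1 (MonoidHom.mem_ker.1 (e (hPR p₀ hp₀)).2)) hp₀1
  -- the component
  obtain ⟨K', hK', p, hp, hpK⟩ : ∃ K' : Subgroup (Qt b), Cfsg.IsComponent K' ∧ ∃ p, ∃ hp : p ∈ (S : Subgroup G) ⊓ L,
      g ⟨p, hp.2, h'.le hp.1⟩ ∉ centralizer (K' : Set (Qt b)) := by
    by_contra hcon
    push Not at hcon
    refine hp₀1 (h.eq_one hp₀.1 (hcen ⟨p₀, hp₀.2, h'.le hp₀.1⟩ fun m hm => hgker _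
      (mul_mem (hRn.conj_mem m hm _) (inv_mem hm)) ?_))
    have hle : Cfsg.layer (Qt b) ≤ centralizer ({g ⟨p₀, hp₀.2, h'.le hp₀.1⟩} : Set (Qt b)) :=
      sSup_le fun K hK y hy =>
        mem_centralizer_singleton_iff.2 (mem_centralizer_iff.1 (hcon K hK p₀ hp₀) y hy)
    have hc := mem_centralizer_singleton_iff.1 (hle (hlay m hm))
    rw [map_mul, map_mul, map_mul, map_inv, map_inv, ← hc]
    group
  have hp1 : p ≠ 1 := fun e => hpK (by
    rw [show (⟨p, hp.2, h'.le hp.1⟩ : ↥D) = 1 from Subtype.ext e, map_one]; exact one_mem _)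
  have hgp : g ⟨p, hp.2, h'.le hp.1⟩ ∈ h'.sylow := h'.mem_sylow.2 ⟨p, hp.1, rfl⟩
  obtain ⟨a, haT, haK, hac⟩ := exists_inner h'.coreFree hK' hgp
  obtain ⟨s, hs, rfl⟩ := h'.mem_sylow.1 haT
  have hsD : s ∈ normalizer (D : Set G) :=
    mem_norm_inf (h.le_norm hL hs) (le_normalizer (h'.le hs))
  have hRK : R ≤ K'.comap g := by
    have hK'n := comp_normal_in_layer hK'
    rcases hkey (R ⊓ K'.comap g) inf_le_left (hnormG _ hK'n) with eN | eN
    swap
    · exact eN.trans inf_le_right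
    exfalso
    rcases hkey (R ⊓ (centralizer (K' : Set (Qt b))).comap g) inf_le_left
        (hnormG _ (hK'n.trans (normalizer_le_normalizer_centralizer' K'))) with eC | eC
    swap
    · exact hpK (eC (hPR p hp)).2
    refine hp1 (h.eq_one hp.1 (hcen ⟨p, hp.2, h'.le hp.1⟩ fun m hm => ?_))
    obtain ⟨r, hr, hre⟩ : ∃ r ∈ R, (r : G) = s * m * s⁻¹ * (m : G)⁻¹ := by
      have hmap : D.map (MulAut.conj s).toMonoidHom = D := mem_normalizer_iff_map_conj_eq.1 hsD
      have h1 := TwoCompPair.pLayerOf_map (MulAut.conj s).toMonoidHom (MulAut.conj s).injective D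
      rw [hmap] at h1
      obtain ⟨r, hr, hre⟩ := h1.ge (mem_map_of_mem (MulAut.conj s).toMonoidHom
        (mem_map_of_mem D.subtype hm))
      exact ⟨r * m⁻¹, mul_mem hr (inv_mem hm), congrArg (· * (m : G)⁻¹) hre⟩
    set a := qm b ⟨s, h'.le hs⟩
    set pp : ↥D := ⟨p, hp.2, h'.le hp.1⟩
    have hgr : g r = a * g m * a⁻¹ * (g m)⁻¹ := by
      show qm b (inclusion hDb r) = _
      rw [show inclusion hDb r = ⟨s, h'.le hs⟩ * inclusion hDb m * ⟨s, h'.le hs⟩⁻¹ * (inclusion hDb m)⁻¹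
        from Subtype.ext hre, map_mul, map_mul, map_mul, map_inv, map_inv]
      rfl
    have hgm := hlay m hm
    have hrK : g r ∈ K' := by
      rw [hgr, show a * g m * a⁻¹ * (g m)⁻¹ = a * (g m * a⁻¹ * (g m)⁻¹) by group]
      exact mul_mem haK ((mem_normalizer_iff.1 (hK'n hgm) _).1 (inv_mem haK))
    have hr1 : f r = 1 := MonoidHom.mem_ker.1 (eN ⟨hr, hrK⟩)
    set c := a⁻¹ * g pp
    have hx : c * g m * c⁻¹ * (g m)⁻¹ ∈ centralizer (K' : Set (Qt b)) := by
      rw [show c * g m * c⁻¹ * (g m)⁻¹ = c * (g m * c⁻¹ * (g m)⁻¹) by group]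
      exact mul_mem hac ((mem_normalizer_iff.1 (normalizer_le_normalizer_centralizer' K' (hK'n hgm)) _).1
        (inv_mem hac))
    have hw : g (pp * m * pp⁻¹ * m⁻¹ * r⁻¹) = c * g m * c⁻¹ * (g m)⁻¹ := by
      have hax : a * (c * g m * c⁻¹ * (g m)⁻¹) * a⁻¹ = c * g m * c⁻¹ * (g m)⁻¹ := by
        rw [mem_centralizer_iff.1 hx a haK, mul_inv_cancel_right]
      rw [← hax, map_mul, map_inv, hgr, map_mul, map_mul, map_mul, map_inv, map_inv,
        show g pp = a * c from (mul_inv_cancel_left a (g pp)).symm]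
      group
    have hwR : pp * m * pp⁻¹ * m⁻¹ * r⁻¹ ∈ R :=
      mul_mem (mul_mem (hRn.conj_mem m hm _) (inv_mem hm)) (inv_mem hr)
    have hw1 : f (pp * m * pp⁻¹ * m⁻¹ * r⁻¹) = 1 :=
      MonoidHom.mem_ker.1 (eC ⟨hwR, show g _ ∈ _ from hw ▸ hx⟩)
    rwa [map_mul, map_inv, hr1, inv_one, mul_one] at hw1
  obtain ⟨K, hK, hKe⟩ := h'.exists_comp hK'
  refine ⟨K, hK, fun z hz => ?_, fun q hq => ⟨hq.1, h'.mem_of_bar hK hq.1 ?_⟩, fun d hd => ?_⟩
  · -- `ZL K ≤ ZL L`
    obtain ⟨hzS, hzK⟩ := (h'.mem_ZL_iff hK).1 hz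
    have hzc : qm b ⟨z, h'.le hzS⟩ ∈ centralizer (K' : Set (Qt b)) :=
      hKe ▸ (h'.triv_iff hK (h'.le hzS)).1 hzK
    refine (h.mem_ZL_iff hL).2 ⟨hzS, (h.triv_iff hL (h.le hzS)).2 (mem_centralizer_iff.2 fun y hy => ?_)⟩
    obtain ⟨d, rfl⟩ := MonoidHom.mem_range.1 (hrange.ge hy)
    obtain ⟨m, hm, hme⟩ := hfR d
    rw [← hme]
    have hzD : z ∈ normalizer (D : Set G) :=
      mem_norm_inf (h.le_norm hL hzS) (le_normalizer (h'.le hzS))
    obtain ⟨r, hr, hre⟩ : ∃ r ∈ R, (r : G) = z * m * z⁻¹ * (m : G)⁻¹ := by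
      have h1 := TwoCompPair.pLayerOf_map (MulAut.conj z).toMonoidHom (MulAut.conj z).injective D
      rw [show D.map (MulAut.conj z).toMonoidHom = D from mem_normalizer_iff_map_conj_eq.1 hzD] at h1
      obtain ⟨r, hr, hre⟩ := h1.ge (mem_map_of_mem (MulAut.conj z).toMonoidHom
        (mem_map_of_mem D.subtype hm))
      exact ⟨r * m⁻¹, mul_mem hr (inv_mem hm), congrArg (· * (m : G)⁻¹) hre⟩
    have hgr : g r = 1 := by
      show qm b (inclusion hDb r) = 1
      rw [show inclusion hDb r = ⟨z, h'.le hzS⟩ * inclusion hDb m * ⟨z, h'.le hzS⟩⁻¹ * (inclusion hDb m)⁻¹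
        from Subtype.ext hre, map_mul, map_mul, map_mul, map_inv, map_inv]
      rw [show qm b ⟨z, h'.le hzS⟩ * qm b (inclusion hDb m) = qm b (inclusion hDb m) * qm b ⟨z, h'.le hzS⟩
        from (mem_centralizer_iff.1 hzc _ (hRK hm)).symm, mul_inv_cancel_right, mul_inv_cancel]
    have hfr := hgker r hr hgr
    change qm t (inclusion hDt r) = 1 at hfr
    rw [show inclusion hDt r = ⟨z, h.le hzS⟩ * inclusion hDt m * ⟨z, h.le hzS⟩⁻¹ * (inclusion hDt m)⁻¹
      from Subtype.ext hre, map_mul, map_mul, map_mul, map_inv, map_inv, mul_inv_eq_one,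
      mul_inv_eq_iff_eq_mul] at hfr
    exact hfr.symm
  · rw [hKe]
    exact hRK (hPR q hq)
  · obtain ⟨r, hr, o, ho, hro⟩ := mem_sup_of_normal_right.1 (hsup ▸ mem_top (⟨d, hd⟩ : ↥D))
    have hd' : d = (r : G) * (o : G) := (congrArg Subtype.val hro).symm
    rw [hd']
    have hoO : (o : G) ∈ Oc t ⊓ Cb := ⟨mem_Oc.2 ⟨hDt o.2, MonoidHom.mem_ker.1 ho⟩, hDb o.2⟩
    have hrK : g r ∈ bar b K := hKe.symm ▸ hRK hr
    obtain ⟨k, hk, hke⟩ := hrK
    have h1 : (k : G)⁻¹ * r ∈ Oc b := mem_Oc.2 ⟨mul_mem (inv_mem k.2) (hDb r.2), by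
      show qm b (k⁻¹ * inclusion hDb r) = 1
      rw [map_mul, map_inv, hke]
      exact inv_mul_cancel _⟩
    have h2 := mul_mem (mem_sup_left (T := Oc b) (show (k : G) ∈ K from hk)) (mem_sup_right (S := K) h1)
    rw [mul_inv_cancel_left] at h2
    exact mul_mem (mem_sup_left h2) (mem_sup_right hoO)

end Cfsg.Lib.Walter
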