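import Cfsg.Agent.Walter.Three
import Cfsg.Agent.Walter.Lift
import Cfsg.Agent.Walter.Assembly

/-!
Walter's theorem without recognition of the Ree groups.
-/

set_option autoImplicit false
set_option linter.unusedSectionVars false

namespace Cfsg.Lib.Walter

universe u

variable {G : Type u} [Group G] [Finite G]

/-- P1 + P2: the dichotomy. -/
theorem splitSpec : SplitSpec G :=
  splitSpec_of_lift fun h hsq hL hb hb1 => h.lift_comp hsq hL hb hb1

/-- A simple group with abelian Sylow 2-subgroups is `PSL(2, q)` or of Janko–Ree type. -/
theorem walterProp : WalterProp.{u} :=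
  walterProp_of_split fun G _ _ => splitSpec (G := G)

end Cfsg.Lib.Walter
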