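import Cfsg.Agent.Walter.Rot
import Cfsg.Agent.GenDihedral.Four.L2TopOrd
import Cfsg.Agent.GWFour.Consumers.Reduce

/-!
An automorphism of odd order of `PSL(2, q)`, `q ≡ 3, 5 (mod 8)`, fixing the centraliser of an involution
pointwise is trivial.
-/

set_option autoImplicit false
set_option linter.unusedSectionVars false
set_option linter.style.haveILetI false

namespace Cfsg.Lib.Walter

open Subgroup Cfsg.Lib.GenDihedral Cfsg.Lib.FourGW

universe u

variable {L : Type u} [Group L] [Finite L]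

theorem exists_top (h : GWFour.IsSmallSylowPSL L) :
    ∃ (F : Type) (_ : Field F) (_ : Fintype F), 5 ≤ Fintype.card F ∧ Top F (⊤ : Subgroup L) := by
  obtain ⟨F, iF, iFt, hq, h5, ⟨e⟩⟩ := h
  exact ⟨F, iF, iFt, h5, ⟨inferInstance, by rw [Subgroup.index_top]; exact odd_one,
    ⟨Subgroup.topEquiv.trans e⟩, hq⟩⟩

section

variable {F : Type} [Field F] [Fintype F]

theorem cent_klein (K : Top F (⊤ : Subgroup L)) (P : Subgroup L) [hP : IsKleinFour P] :
    centralizer (P : Set L) = P := by
  haveI : Nontrivial P := Finite.one_lt_card_iff_nontrivial.1 (by rw [hP.card_four]; norm_num)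
  obtain ⟨⟨t, ht⟩, ht1⟩ := exists_ne (1 : P)
  have ht2 : orderOf t = 2 := orderOf_eq_prime (by
    rw [pow_two]; exact congrArg Subtype.val (IsKleinFour.mul_self (⟨t, ht⟩ : P))) fun e => ht1 (Subtype.ext e)
  obtain ⟨u, hu, hu1, hut⟩ : ∃ u ∈ P, u ≠ 1 ∧ u ≠ t := by
    classical
    haveI := Fintype.ofFinite P
    obtain ⟨u, -, hu⟩ := Finset.exists_mem_notMem_of_card_lt_card (s := ({1, ⟨t, ht⟩} : Finset P))
      (t := Finset.univ) (by
        rw [Finset.card_univ, ← Nat.card_eq_fintype_card, hP.card_four]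
        exact lt_of_le_of_lt Finset.card_le_two (by norm_num))
    simp only [Finset.mem_insert, Finset.mem_singleton, not_or] at hu
    exact ⟨u, u.2, fun e => hu.1 (Subtype.ext e), fun e => hu.2 (Subtype.ext e)⟩
  have hu2 : orderOf u = 2 := orderOf_eq_prime (by
    rw [pow_two]; exact congrArg Subtype.val (IsKleinFour.mul_self (⟨u, hu⟩ : P))) hu1
  have hc : t * u = u * t := congrArg Subtype.val (GWFour.comm_of_klein (⟨t, ht⟩ : P) ⟨u, hu⟩)
  have h4 := K.card_cent_four (isFour_of_comm ht2 hu2 hc (Ne.symm hut))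
  rw [Subgroup.index_top, mul_one] at h4
  have hle : P ≤ centralizer (P : Set L) := fun x hx => mem_centralizer_iff.2 fun y hy =>
    congrArg Subtype.val (GWFour.comm_of_klein (⟨y, hy⟩ : P) ⟨x, hx⟩)
  refine le_antisymm ?_ hle
  have h2 : centralizer (P : Set L) ≤ centralizer ({t} : Set L) ⊓ centralizer ({u} : Set L) :=
    le_inf (centralizer_le (Set.singleton_subset_iff.2 ht)) (centralizer_le (Set.singleton_subset_iff.2 hu))
  exact (Subgroup.eq_of_le_of_card_ge hle (by rw [hP.card_four, ← h4]; exact card_le_of_le h2)).ge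

theorem rot_small (K : Top F (⊤ : Subgroup L)) [Fact (Nat.Prime 2)] (P : Sylow 2 L)
    [hP : IsKleinFour (P : Subgroup L)] : Rot (P : Subgroup L) := by
  refine rot_of_prime (ℓ := 3) Nat.prime_three hP.card_four (Or.inl rfl) ?_
  set C := centralizer ((P : Subgroup L) : Set L) with hC
  set N := normalizer ((P : Subgroup L) : Set L)
  have hCP : C = (P : Subgroup L) := cent_klein K P
  -- a rotation
  obtain ⟨l, hlN, hlC⟩ : ∃ l ∈ N, l ∉ C := by
    haveI : Nontrivial (P : Subgroup L) := Finite.one_lt_card_iff_nontrivial.1 (by rw [hP.card_four]; norm_num)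
    obtain ⟨⟨t, ht⟩, ht1⟩ := exists_ne (1 : (P : Subgroup L))
    have ht1' : t ≠ 1 := fun e => ht1 (Subtype.ext e)
    by_contra hcon
    push Not at hcon
    obtain ⟨u, hu, hu1, hut⟩ : ∃ u ∈ P, u ≠ 1 ∧ u ≠ t := by
      classical
      haveI := Fintype.ofFinite (P : Subgroup L)
      obtain ⟨u, -, hu⟩ := Finset.exists_mem_notMem_of_card_lt_card
        (s := ({1, ⟨t, ht⟩} : Finset (P : Subgroup L))) (t := Finset.univ) (by
          rw [Finset.card_univ, ← Nat.card_eq_fintype_card, hP.card_four]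
          exact lt_of_le_of_lt Finset.card_le_two (by norm_num))
      simp only [Finset.mem_insert, Finset.mem_singleton, not_or] at hu
      exact ⟨u, u.2, fun e => hu.1 (Subtype.ext e), fun e => hu.2 (Subtype.ext e)⟩
    have hsq : ∀ x ∈ P, x * x = 1 := fun x hx =>
      congrArg Subtype.val (IsKleinFour.mul_self (⟨x, hx⟩ : (P : Subgroup L)))
    have F4 : IsFour t u (t * u) := isFour_of_comm
      (orderOf_eq_prime (by rw [pow_two, hsq t ht]) ht1') (orderOf_eq_prime (by rw [pow_two, hsq u hu]) hu1)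
      (congrArg Subtype.val (GWFour.comm_of_klein (⟨t, ht⟩ : (P : Subgroup L)) ⟨u, hu⟩)) (Ne.symm hut)
    obtain ⟨l, -, hlt, hlu⟩ := K.exists_rot_L F4
    have hPV : ∀ x ∈ (P : Subgroup L), x = 1 ∨ x = t ∨ x = u ∨ x = t * u := by
      intro x hx
      by_contra h
      push Not at h
      classical
      haveI := Fintype.ofFinite (P : Subgroup L)
      have h5 : ({1, ⟨t, ht⟩, ⟨u, hu⟩, ⟨t * u, mul_mem ht hu⟩, ⟨x, hx⟩} : Finset (P : Subgroup L)).card = 5 := by
        have h' : t * u ≠ 1 := fun e => hut (by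
          rw [eq_inv_of_mul_eq_one_right e, inv_eq_of_mul_eq_one_right (hsq t ht)])
        rw [Finset.card_insert_of_notMem, Finset.card_insert_of_notMem, Finset.card_insert_of_notMem,
          Finset.card_insert_of_notMem, Finset.card_singleton] <;>
          simp [Subtype.ext_iff, ht1', hu1, h', Ne.symm h.1, Ne.symm h.2.1, Ne.symm h.2.2.1, Ne.symm h.2.2.2,
            Ne.symm hut, ht1'.symm, hu1.symm, h'.symm, mul_eq_left]
      have := Finset.card_le_univ ({1, ⟨t, ht⟩, ⟨u, hu⟩, ⟨t * u, mul_mem ht hu⟩, ⟨x, hx⟩} :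
        Finset (P : Subgroup L))
      rw [h5, ← Nat.card_eq_fintype_card, hP.card_four] at this
      omega
    have hlmem : ∀ x ∈ (P : Subgroup L), l * x * l⁻¹ ∈ (P : Subgroup L) := by
      intro x hx
      have hu' : l * u * l⁻¹ ∈ (P : Subgroup L) := by
        rcases hlu with e | e <;> rw [e]
        exacts [ht, mul_mem ht hu]
      rcases hPV x hx with rfl | rfl | rfl | rfl
      · simp
      · rw [hlt]; exact hu
      · exact hu'
      · rw [← conj_mul, hlt]; exact mul_mem hu hu'
    have := mem_centralizer_iff.1 (hcon l (ZStarApps.mem_normalizer_of_maps hlmem)) t ht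
    exact hut (hlt.symm.trans (mul_inv_eq_iff_eq_mul.2 this.symm))
  have hne : C.relIndex N ≠ 1 := fun e => hlC (relIndex_eq_one.1 e hlN)
  have hodd : Odd (C.relIndex N) := by
    refine Nat.not_even_iff_odd.1 fun h => P.not_dvd_index (h.two_dvd.trans ?_)
    rw [hCP]
    exact relIndex_dvd_index_of_le le_normalizer
  have h24 : C.relIndex N ∣ 24 := by
    have hker : (normalizerMonoidHom (P : Subgroup L)).ker = C.subgroupOf N := normalizerMonoidHom_ker _
    rw [relIndex, ← hker, index_ker]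
    have h24 : Nat.card (Equiv.Perm ↥(P : Subgroup L)) = 24 := by rw [Nat.card_perm, hP.card_four]; rfl
    rw [← h24]
    let ψ : MulAut ↥(P : Subgroup L) →* Equiv.Perm ↥(P : Subgroup L) :=
      { toFun := fun a => a.toEquiv, map_one' := rfl, map_mul' := fun _ _ => rfl }
    exact (card_subgroup_dvd_card _).trans (card_dvd_of_injective ψ fun a b e =>
      MulEquiv.ext fun x => Equiv.congr_fun e x)
  obtain ⟨k, hk⟩ := hodd
  have hle := Nat.le_of_dvd (by norm_num) h24
  interval_cases hC' : C.relIndex N <;> omega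

end

section Fixed

variable {F : Type} [Field F] [Fintype F]

theorem odd_spreadQ {q : ℕ} (hq : q % 8 = 3 ∨ q % 8 = 5) : Odd (spreadQ q) := by
  obtain ⟨⟨k, hk⟩, h⟩ := torT_spec hq
  have hq1 : Odd q := Nat.odd_iff.2 (by omega)
  unfold spreadQ
  split_ifs
  · exact hq1.mul ⟨torT q, rfl⟩
  · exact hq1.mul ⟨2 * k, by omega⟩

theorem pow_fix (e : MulAut L) {g p h : L} (he : e g = p * g * h) (hp : e p = p) (hh : e h = h) :
    ∀ n : ℕ, (e ^ n) g = p ^ n * g * h ^ n := by
  intro n
  induction n with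
  | zero => simp
  | succ n ih =>
    rw [pow_succ', MulAut.mul_apply, ih, map_mul, map_mul, map_pow, map_pow, he, hp, hh, pow_succ, pow_succ']
    group

theorem eq_one_of_pow_odd {p : L} {m : ℕ} (hm : Odd m) (h : p ^ m = 1) (h4 : p ^ 4 = 1) : p = 1 := by
  have hd := Nat.dvd_gcd (orderOf_dvd_of_pow_eq_one h4) (orderOf_dvd_of_pow_eq_one h)
  have hc : Nat.gcd (2 ^ 2) m = 1 := Nat.Coprime.pow_left 2 (Nat.coprime_two_left.2 hm)
  rw [show (4 : ℕ) = 2 ^ 2 from rfl, hc, Nat.dvd_one, orderOf_eq_one_iff] at hd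
  exact hd

variable (K : Top F (⊤ : Subgroup L))
include K

theorem card_four {v u : L} (F4 : IsFour v u (v * u)) :
    Nat.card (centralizer ({v} : Set L) ⊓ centralizer ({u} : Set L) : Subgroup L) = 4 := by
  rw [K.card_cent_four F4, index_top]

theorem pow_four {v u p : L} (F4 : IsFour v u (v * u))
    (hp : p ∈ (centralizer ({v} : Set L) ⊓ centralizer ({u} : Set L) : Subgroup L)) : p ^ 4 = 1 :=
  orderOf_dvd_iff_pow_eq_one.1 (card_four K F4 ▸ (Subgroup.orderOf_mk p hp) ▸ orderOf_dvd_natCard _)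

/-- A rotation of a four-group fixed pointwise is fixed. -/
theorem rot_fixed {v u : L} (F4 : IsFour v u (v * u)) (e : MulAut L) (ho : Odd (orderOf e))
    (hfix : ∀ x, x * v = v * x → e x = x) : ∃ l, e l = l ∧ l * v * l⁻¹ = u := by
  obtain ⟨l, -, hlv, hlu⟩ := K.exists_rot_L F4
  refine ⟨l, ?_, hlv⟩
  have hu := F4.comm.symm
  have hvu : v * u * v = v * (v * u) := by rw [mul_assoc, hu]
  have hcom : ∀ y : L, y * v = v * y → (l * y * l⁻¹) * v = v * (l * y * l⁻¹) →
      l⁻¹ * e l * y = y * (l⁻¹ * e l) := by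
    intro y h1 h2
    have h := hfix _ h2
    rw [map_mul, map_mul, map_inv, hfix y h1, mul_inv_eq_iff_eq_mul] at h
    calc l⁻¹ * e l * y = l⁻¹ * (e l * y) := mul_assoc _ _ _
      _ = y * (l⁻¹ * e l) := by rw [h]; group
  have hpv : l⁻¹ * e l * v = v * (l⁻¹ * e l) := hcom v rfl (by rw [hlv, hu])
  have hpu : l⁻¹ * e l * u = u * (l⁻¹ * e l) := hcom u hu (by
    rcases hlu with h | h <;> rw [h]
    exact hvu)
  have hm := pow_fix e (g := l) (p := 1) (h := l⁻¹ * e l) (by group) (map_one e) (hfix _ hpv) (orderOf e)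
  rw [pow_orderOf_eq_one, MulAut.one_apply, one_pow, one_mul, left_eq_mul] at hm
  exact (inv_mul_eq_one.1 (eq_one_of_pow_odd ho hm
    (pow_four K F4 ⟨GenDihedral.mem_cent.2 hpv, GenDihedral.mem_cent.2 hpu⟩))).symm

/-- Conjugates of `v` at distance at most two. -/
theorem count {v u : L} (F4 : IsFour v u (v * u)) {H : Subgroup L} (hC : centralizer ({v} : Set L) ≤ H)
    {lu lw : L} (hlu : lu ∈ H) (hlw : lw ∈ H) (hu : lu * v * lu⁻¹ = u) (hw : lw * v * lw⁻¹ = v * u) :
    2 * torT (Fintype.card F) ^ 2 + 1 ≤ (centralizer ({v} : Set L)).relIndex H := by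
  classical
  set T := tor (⊤ : Subgroup L) v with hTdef
  have hv := F4.z2
  have hvv := mul_self_of_two hv
  have huu := mul_self_of_two F4.t2
  have hT : ∀ c ∈ T, c * v = v * c ∧ Odd (orderOf c) := fun c hc => ((K.mem_tor hv).1 hc).2
  let w : Bool → L := fun b => if b then v * u else u
  let l : Bool → L := fun b => if b then lw else lu
  have hlH : ∀ b, l b ∈ H := by intro b; cases b <;> assumption
  have hl : ∀ b, l b * v * (l b)⁻¹ = w b := by intro b; cases b <;> assumption
  have hvu1 : v * u * v = v * (v * u) := by rw [mul_assoc, ← F4.comm]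
  have hwb : ∀ b, orderOf (w b) = 2 ∧ w b ≠ v ∧ w b * v = v * w b := by
    intro b
    cases b
    · exact ⟨F4.t2, F4.ne_zt.symm, F4.comm.symm⟩
    · refine ⟨F4.s2, fun e => ?_, hvu1⟩
      have h : u = 1 := mul_left_cancel (show v * u = v * 1 by rw [mul_one]; exact e)
      exact absurd (h ▸ F4.t2 : orderOf (1 : L) = 2) (by rw [orderOf_one]; omega)
  have hww : ∀ b b', w b * w b' = if b = b' then 1 else v := by
    intro b b'
    cases b <;> cases b' <;> simp only [w, Bool.false_eq_true, if_false, if_true, if_pos, reduceCtorEq]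
    · exact huu
    · rw [F4.comm, ← mul_assoc, huu, one_mul]
    · rw [mul_assoc, huu, mul_one]
    · exact mul_self_of_two F4.s2
  let zz : Bool → T → L := fun b c => (c : L) * w b * (c : L)⁻¹
  have hzz : ∀ b (c : T), zz b c = (c : L) * c * w b := by
    intro b c
    have h := K.tor_inv hv (hwb b).1 (hwb b).2.1 (hwb b).2.2 (inv_mem c.2)
    rw [inv_inv] at h
    calc (c : L) * w b * (c : L)⁻¹ = c * (w b * (c : L)⁻¹ * (w b)⁻¹) * w b := by group
      _ = _ := by rw [h]
  have hzv : ∀ b (c : T), zz b c * v = v * zz b c := by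
    intro b c
    have e : (c : L) * v * (c : L)⁻¹ = v := conj_fix_iff.2 (hT c c.2).1.symm
    show (c : L) * w b * (c : L)⁻¹ * v = v * ((c : L) * w b * (c : L)⁻¹)
    conv_lhs => rw [← e]
    conv_rhs => rw [← e]
    rw [_root_.conj_mul, _root_.conj_mul, (hwb b).2.2]
  have hkey : ∀ (b b' : Bool) (c c' : T), (zz b c = zz b' c' ∨ ∃ x, orderOf x = 2 ∧ x * v ≠ v * x ∧
      x * zz b c = zz b c * x ∧ x * zz b' c' = zz b' c' * x) → b = b' ∧ c = c' := by
    intro b b' c c' h
    set g := (c : L) * c * ((c' : L) * c')⁻¹ with hg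
    have hgT : g ∈ T := mul_mem (mul_mem c.2 c.2) (inv_mem (mul_mem c'.2 c'.2))
    have hq : zz b c * zz b' c' = g * (w b * w b') := by
      have h' := K.tor_inv hv (hwb b).1 (hwb b).2.1 (hwb b).2.2 (mul_mem c'.2 c'.2)
      rw [hzz, hzz]
      calc (c : L) * c * w b * ((c' : L) * c' * w b')
          = c * c * (w b * ((c' : L) * c') * (w b)⁻¹) * (w b * w b') := by group
        _ = _ := by rw [h', hg]
    rw [hww] at hq
    obtain ⟨ε, hε, hεq⟩ : ∃ ε : L, ε * ε = 1 ∧ (if b = b' then (1 : L) else v) = ε ∧ g * ε = ε * g :=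
      ⟨_, by split_ifs <;> simp [hvv], rfl, by split_ifs <;> simp [(hT g hgT).1]⟩
    have hgg : g * ε * (g * ε) = g * g := by
      calc g * ε * (g * ε) = g * ε * (ε * g) := by rw [hεq.2]
        _ = g * (ε * ε) * g := by group
        _ = g * g := by rw [hε, mul_one]
    rw [hεq.1] at hq
    have hg1 : g = 1 := by
      refine eq_one_of_sq_of_odd ?_ (hT g hgT).2
      rcases h with h | ⟨x, hx, hxv, h1, h2⟩
      · rw [← h] at hq
        have hz2 : zz b c * zz b c = 1 := by
          show (c : L) * w b * (c : L)⁻¹ * ((c : L) * w b * (c : L)⁻¹) = 1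
          rw [_root_.conj_mul, mul_self_of_two (hwb b).1, mul_one, mul_inv_cancel]
        rw [hz2] at hq
        rw [← hgg, ← hq, one_mul]
      · by_contra hne
        refine hxv (K.eq_of_comm_tor hv hx (mul_mem hgT hgT) hne ?_ ▸ rfl)
        have h3 : Commute x (g * ε) := hq ▸ (show Commute x (zz b c) from h1).mul_right h2
        rw [← hgg]
        exact (h3.mul_right h3).eq
    have hb : b = b' := by
      by_contra hne
      rw [hg1, one_mul, ← hεq.1, if_neg hne] at hq
      rcases h with h | ⟨x, hx, hxv, h1, h2⟩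
      · rw [← h] at hq
        have hz2 : zz b c * zz b c = 1 := by
          show (c : L) * w b * (c : L)⁻¹ * ((c : L) * w b * (c : L)⁻¹) = 1
          rw [_root_.conj_mul, mul_self_of_two (hwb b).1, mul_one, mul_inv_cancel]
        rw [hz2] at hq
        rw [← hq, orderOf_one] at hv
        omega
      · exact hxv (hq ▸ ((show Commute x (zz b c) from h1).mul_right h2).eq)
    refine ⟨hb, Subtype.ext (mul_inv_eq_one.1 (eq_one_of_sq_of_odd ?_ (hT _ (mul_mem c.2 (inv_mem c'.2))).2))⟩
    calc (c : L) * (c' : L)⁻¹ * (c * (c' : L)⁻¹) = c * ((c' : L)⁻¹ * c) * (c' : L)⁻¹ := by group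
      _ = c * (c * (c' : L)⁻¹) * (c' : L)⁻¹ := by rw [K.tor_comm hv (inv_mem c'.2) c.2]
      _ = g := by rw [hg]; group
      _ = 1 := hg1
  let d : Bool → T → L := fun b a => l b * (a : L) * (l b)⁻¹
  have hd : ∀ b (a : T), d b a ∈ tor (⊤ : Subgroup L) (w b) := fun b a => hl b ▸ K.conj_tor hv (l b) a.2
  have hdH : ∀ b a, d b a ∈ H := fun b a =>
    mul_mem (mul_mem (hlH b) (hC (GenDihedral.mem_cent.2 (hT a a.2).1))) (inv_mem (hlH b))
  let y : Bool → T → L := fun b a => d b a * v * (d b a)⁻¹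
  have hy : ∀ b a, y b a = d b a * d b a * v := by
    intro b a
    have h := K.tor_inv (hwb b).1 hv (hwb b).2.1.symm (hwb b).2.2.symm (inv_mem (hd b a))
    rw [inv_inv] at h
    calc d b a * v * (d b a)⁻¹ = d b a * (v * (d b a)⁻¹ * v⁻¹) * v := by group
      _ = _ := by rw [h]
  have hy1 : ∀ b (a : T), a ≠ 1 → y b a * v ≠ v * y b a := by
    intro b a ha h
    rw [hy, mul_assoc _ v v, hvv, mul_one] at h
    have h1 : d b a * d b a * v = v * (d b a * d b a) := by
      calc d b a * d b a * v = v * (v * (d b a * d b a * v)) := by rw [← mul_assoc v v, hvv, one_mul]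
        _ = v * (d b a * d b a) := by rw [← h]
    have h2 := K.eq_one_of_two_tori (hwb b).1 hv (hwb b).2.1.symm (hwb b).2.2.symm
      (mul_mem (hd b a) (hd b a)) h1
    exact ha (Subtype.ext (conj_eq_one_iff.1 (eq_one_of_sq_of_odd h2 ((K.mem_tor (hwb b).1).1 (hd b a)).2.2)))
  let x : Bool → T → T → L := fun b c a => (c : L) * y b a * (c : L)⁻¹
  have hx1 : ∀ b c a, a ≠ 1 → x b c a * v ≠ v * x b c a := by
    intro b c a ha h
    apply hy1 b a ha
    have e : (c : L) * v * (c : L)⁻¹ = v := conj_fix_iff.2 (hT c c.2).1.symm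
    have h' : (c : L) * (y b a * v) * (c : L)⁻¹ = (c : L) * (v * y b a) * (c : L)⁻¹ := by
      rw [← _root_.conj_mul (a := y b a), ← _root_.conj_mul (a := v), e]; exact h
    exact mul_left_cancel (mul_right_cancel h')
  have hx2 : ∀ b c a, x b c a * zz b c = zz b c * x b c a := by
    intro b c a
    show (c : L) * y b a * (c : L)⁻¹ * ((c : L) * w b * (c : L)⁻¹) = (c : L) * w b * (c : L)⁻¹ * _
    have e : d b a * w b = w b * d b a := ((K.mem_tor (hwb b).1).1 (hd b a)).2.1
    have h3 : Commute (y b a) (w b) :=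
      ((show Commute (d b a) (w b) from e).mul_left (hwb b).2.2.symm).mul_left
        (show Commute (d b a) (w b) from e).inv_left
    rw [_root_.conj_mul, _root_.conj_mul, h3.eq]
  have hxo : ∀ b c a, orderOf (x b c a) = 2 := fun b c a => by
    show orderOf ((MulAut.conj (c : L)) (MulAut.conj (d b a) v)) = 2
    rw [MulEquiv.orderOf_eq, MulEquiv.orderOf_eq, hv]
  let i : Option (Bool × T × T) → H := fun o => match o with
    | none => 1
    | some (b, c, a) => if a = 1 then ⟨(c : L) * l b, mul_mem (hC (GenDihedral.mem_cent.2 (hT c c.2).1)) (hlH b)⟩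
        else ⟨(c : L) * d b a, mul_mem (hC (GenDihedral.mem_cent.2 (hT c c.2).1)) (hdH b a)⟩
  have hi : ∀ b c a, (i (some (b, c, a)) : L) * v * (i (some (b, c, a)) : L)⁻¹ =
      if a = 1 then zz b c else x b c a := by
    intro b c a
    simp only [i]
    split_ifs with ha <;> simp only [zz, x, y] <;> [rw [← hl b]; skip] <;> group
  have hne : ∀ b c a, (if a = 1 then zz b c else x b c a) ≠ v := by
    intro b c a
    split_ifs with ha
    · exact fun e => (hwb b).2.1 ((MulAut.conj (c : L)).injective (e.trans (conj_fix_iff.2 (hT c c.2).1.symm).symm))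
    · exact fun e => hx1 b c a ha (by rw [e])
  have hinj : Function.Injective fun o => (i o : L) * v * (i o : L)⁻¹ := by
    rintro (_ | ⟨b, c, a⟩) (_ | ⟨b', c', a'⟩) h <;> simp only at h
    · rfl
    · rw [hi] at h; simp only [i, OneMemClass.coe_one, one_mul, inv_one, mul_one] at h
      exact absurd h.symm (hne b' c' a')
    · rw [hi] at h; simp only [i, OneMemClass.coe_one, one_mul, inv_one, mul_one] at h
      exact absurd h (hne b c a)
    · rw [hi, hi] at h
      by_cases ha : a = 1 <;> by_cases ha' : a' = 1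
      · rw [if_pos ha, if_pos ha'] at h
        obtain ⟨rfl, rfl⟩ := hkey b b' c c' (Or.inl h)
        rw [ha, ha']
      · rw [if_pos ha, if_neg ha'] at h
        exact absurd (h ▸ hzv b c) (hx1 b' c' a' ha')
      · rw [if_neg ha, if_pos ha'] at h
        exact absurd (h ▸ hzv b' c') (hx1 b c a ha)
      · rw [if_neg ha, if_neg ha'] at h
        obtain ⟨rfl, rfl⟩ := hkey b b' c c'
          (Or.inr ⟨x b c a, hxo b c a, hx1 b c a ha, hx2 b c a, by rw [h]; exact hx2 b' c' a'⟩)
        have h' : y b a = y b a' := mul_left_cancel (mul_right_cancel h)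
        rw [hy, hy] at h'
        have h'' : (a : L) * a = (a' : L) * a' := by
          have h3 : l b * ((a : L) * a) * (l b)⁻¹ = l b * ((a' : L) * a') * (l b)⁻¹ := by
            rw [← _root_.conj_mul, ← _root_.conj_mul]; exact mul_right_cancel h'
          exact mul_left_cancel (mul_right_cancel h3)
        have : a = a' := Subtype.ext (mul_inv_eq_one.1 (eq_one_of_sq_of_odd (by
          calc (a : L) * (a' : L)⁻¹ * (a * (a' : L)⁻¹) = a * ((a' : L)⁻¹ * a) * (a' : L)⁻¹ := by group
            _ = a * (a * (a' : L)⁻¹) * (a' : L)⁻¹ := by rw [K.tor_comm hv (inv_mem a'.2) a.2]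
            _ = a * a * ((a' : L) * a')⁻¹ := by group
            _ = 1 := by rw [h'', mul_inv_cancel]) (hT _ (mul_mem a.2 (inv_mem a'.2))).2))
        rw [this]
  have hle := Nat.card_le_card_of_injective
    (fun o => (QuotientGroup.mk (i o) : H ⧸ (centralizer ({v} : Set L)).subgroupOf H)) fun o o' h => hinj (by
      have h' := GenDihedral.mem_cent.1 (mem_subgroupOf.1 (QuotientGroup.eq.1 h))
      simp only [Subgroup.coe_mul, Subgroup.coe_inv] at h'
      calc (i o : L) * v * (i o : L)⁻¹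
          = (i o : L) * (v * ((i o : L)⁻¹ * i o')) * (i o' : L)⁻¹ := by group
        _ = (i o' : L) * v * (i o' : L)⁻¹ := by rw [← h']; group)
  rw [← index_eq_card, ← relIndex] at hle
  have hc : Nat.card (Option (Bool × T × T)) = 2 * torT (Fintype.card F) ^ 2 + 1 := by
    rw [Finite.card_option, Nat.card_prod, Nat.card_prod, Nat.card_eq_fintype_card (α := Bool),
      Fintype.card_bool, K.card_tor hv]
    ring
  omega

/-- An automorphism of odd order fixing the centraliser of an involution pointwise is trivial. -/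
theorem eq_one_of_fix_cent [IsSimpleGroup L] {v : L} (hv : orderOf v = 2) (e : MulAut L)
    (ho : Odd (orderOf e)) (hfix : ∀ x, x * v = v * x → e x = x) : e = 1 := by
  haveI : Fact (Nat.Prime 2) := ⟨Nat.prime_two⟩
  obtain ⟨u, hu, huv, hne⟩ : ∃ u, orderOf u = 2 ∧ u * v = v * u ∧ u ≠ v := by
    obtain ⟨A, hA, -, -⟩ := K.exists_hyp hv
    obtain ⟨x, hx, hxA⟩ : ∃ x ∈ centralizer ({(⟨v, K.mem_of_two hv⟩ : (⊤ : Subgroup L))} : Set _), x ∉ A := by
      by_contra h
      push Not at h
      have := relIndex_eq_one.2 h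
      rw [hA.idx] at this
      omega
    refine ⟨(x : L), orderOf_eq_prime (by rw [pow_two]; exact congrArg Subtype.val (hA.out x hx hxA)) ?_,
      congrArg Subtype.val (GenDihedral.mem_cent.1 hx), fun e => hxA ?_⟩
    · intro e; exact hxA ((Subtype.ext e : x = 1) ▸ one_mem A)
    · exact (Subtype.ext e : x = ⟨v, K.mem_of_two hv⟩) ▸ hA.mem
  have F4 := isFour_of_comm hv hu huv.symm hne.symm
  have F4' := isFour_of_comm hv F4.s2 (by rw [mul_assoc v u v, huv])
    (fun e => absurd (left_eq_mul.1 e ▸ hu : orderOf (1 : L) = 2) (by rw [orderOf_one]; omega))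
  set H := MonoidHom.eqLocus e.toMonoidHom (MonoidHom.id L) with hH
  have hmemH : ∀ {x}, x ∈ H ↔ e x = x := Iff.rfl
  have hC : centralizer ({v} : Set L) ≤ H := fun x hx => hfix x (GenDihedral.mem_cent.1 hx)
  obtain ⟨lu, hlu, hlu'⟩ := rot_fixed K F4 e ho hfix
  obtain ⟨lw, hlw, hlw'⟩ := rot_fixed K F4' e ho hfix
  have hk := count K F4 hC hlu hlw hlu' hlw'
  set P := (centralizer ({v} : Set L) ⊓ centralizer ({u} : Set L) : Subgroup L) with hP
  have hPH : P ≤ H := inf_le_left.trans hC
  -- the involutions of `C(v)` are conjugate to `v` in `H`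
  have hconj : ∀ t, orderOf t = 2 → t * v = v * t → ∃ h ∈ H, h * v * h⁻¹ = t := by
    intro t ht htv
    by_cases htv' : t = v
    · exact ⟨1, one_mem H, by simp [htv']⟩
    obtain ⟨c, hc, h⟩ := K.exists_tor_move F4 ht htv' htv
    have hcH : c ∈ H := hC (GenDihedral.mem_cent.2 ((K.mem_tor hv).1 hc).2.1)
    rcases h with h | h
    · exact ⟨c * lu, mul_mem hcH hlu, by
        calc c * lu * v * (c * lu)⁻¹ = c * (lu * v * lu⁻¹) * c⁻¹ := by group
          _ = t := by rw [hlu', ← h]; group⟩
    · exact ⟨c * lw, mul_mem hcH hlw, by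
        calc c * lw * v * (c * lw)⁻¹ = c * (lw * v * lw⁻¹) * c⁻¹ := by group
          _ = t := by rw [hlw', ← h]; group⟩
  -- `H` is strongly embedded at `P`
  have hfree : ∀ g, ∀ p ∈ P, g⁻¹ * p * g ∈ H → p ≠ 1 → g ∈ H := by
    intro g p hp hpg hp1
    obtain ⟨t, ht, htP, htg⟩ : ∃ t, orderOf t = 2 ∧ t ∈ P ∧ g⁻¹ * t * g ∈ H := by
      rcases two_or_one (x := p * p) (by
        have := pow_four K F4 hp
        rwa [show 4 = 2 + 2 from rfl, pow_add, pow_two] at this) with h | h
      · exact ⟨p, (two_or_one h).resolve_left hp1, hp, hpg⟩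
      · exact ⟨p * p, h, mul_mem hp hp, by
          rw [show g⁻¹ * (p * p) * g = g⁻¹ * p * g * (g⁻¹ * p * g) by group]; exact mul_mem hpg hpg⟩
    set s := g⁻¹ * t * g with hs
    have hso : orderOf s = 2 := by
      have := MulEquiv.orderOf_eq (MulAut.conj g⁻¹) t
      simpa [hs, ht] using this
    have hidx : ¬ 2 ∣ (P.subgroupOf H).index := by
      intro h2
      have h := (h2.trans (relIndex_dvd_index_of_le hPH))
      have h4 := P.card_mul_index
      rw [card_four K F4, ← Subgroup.card_top, K.card_L, mul_assoc] at h4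
      rw [Nat.eq_of_mul_eq_mul_left (by norm_num : 0 < 4) h4] at h
      exact (Nat.not_even_iff_odd.2 ((torT_spec K.hq).1.mul (odd_spreadQ K.hq))) (even_iff_two_dvd.2 h)
    have hPg : IsPGroup 2 (P.subgroupOf H) := IsPGroup.of_card (n := 2) (by
      rw [Nat.card_congr (subgroupOfEquivOfLe hPH).toEquiv, card_four K F4]; rfl)
    set R : Sylow 2 H := hPg.toSylow hidx
    have hsg : IsPGroup 2 (zpowers (⟨s, htg⟩ : H)) := IsPGroup.of_card (n := 1) (by
      rw [Nat.card_zpowers, Subgroup.orderOf_mk, hso, pow_one])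
    obtain ⟨R', hR'⟩ := hsg.exists_le_sylow
    obtain ⟨h, hh⟩ := MulAction.exists_smul_eq H R R'
    have hmem : (⟨s, htg⟩ : H) ∈ ((h • R : Sylow 2 H) : Subgroup H) := hh ▸ hR' (mem_zpowers _)
    rw [Sylow.coe_subgroup_smul, mem_pointwise_smul_iff_inv_smul_mem] at hmem
    have hmem' : (h : L)⁻¹ * s * h ∈ P := by
      have := mem_subgroupOf.1 hmem
      simpa using this
    obtain ⟨k, hkH, hk⟩ := hconj _ (by
      have := MulEquiv.orderOf_eq (MulAut.conj (h : L)⁻¹) s
      simpa [hso] using this) (GenDihedral.mem_cent.1 hmem'.1)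
    obtain ⟨k', hk'H, hk'⟩ := hconj t ht (GenDihedral.mem_cent.1 htP.1)
    have hc : k'⁻¹ * g * ((h : L) * k) ∈ H := hC (GenDihedral.mem_cent.2 (by
      calc k'⁻¹ * g * (↑h * k) * v = k'⁻¹ * g * (↑h * (k * v * k⁻¹) * (↑h)⁻¹) * (↑h * k) := by group
        _ = k'⁻¹ * g * s * (↑h * k) := by rw [hk]; group
        _ = k'⁻¹ * t * g * (↑h * k) := by rw [hs]; group
        _ = v * (k'⁻¹ * g * (↑h * k)) := by rw [← hk']; group))
    have := mul_mem (mul_mem hk'H hc) (inv_mem (mul_mem h.2 hkH))
    rwa [show k' * (k'⁻¹ * g * ((h : L) * k)) * ((h : L) * k)⁻¹ = g by group] at this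
  by_contra hne1
  have hHtop : H ≠ ⊤ := fun h => hne1 (MulEquiv.ext fun x => hmemH.1 (h ▸ mem_top x))
  obtain ⟨g₀, hg₀⟩ : ∃ g, g ∉ H := by
    by_contra h; push Not at h; exact hHtop (eq_top_iff.2 fun x _ => h x)
  -- the cosets
  classical
  let ι : ∀ g : L, g ∉ H → Option P → L ⧸ H := fun g _ o => o.elim (1 : L) fun p => ((p : L) * g : L)
  have hι : ∀ g hg, Function.Injective (ι g hg) := by
    rintro g hg (_ | p) (_ | p') h <;> simp only [ι, Option.elim] at h
    · rfl
    · have h' := QuotientGroup.eq.1 h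
      rw [inv_one, one_mul] at h'
      exact absurd ((Subgroup.mul_mem_cancel_left H (hPH p'.2)).1 h') hg
    · have h' := QuotientGroup.eq.1 h.symm
      rw [inv_one, one_mul] at h'
      exact absurd ((Subgroup.mul_mem_cancel_left H (hPH p.2)).1 h') hg
    · have h' := QuotientGroup.eq.1 h
      by_contra hne'
      refine hg (hfree g ((p : L)⁻¹ * p') (mul_mem (inv_mem p.2) p'.2) ?_ fun e => hne' ?_)
      · rwa [show g⁻¹ * ((p : L)⁻¹ * p') * g = ((p : L) * g)⁻¹ * (p' * g) by group]
      · rw [Subtype.ext (inv_mul_eq_one.1 e)]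
  have hcard : Nat.card (Option P) = 5 := by rw [Finite.card_option, card_four K F4]
  have h5 : H.index = 5 := by
    have h := relIndex_mul_index hC
    rw [K.index_cent hv] at h
    have hj : 5 ≤ H.index := by
      rw [index_eq_card, ← hcard]
      exact Nat.card_le_card_of_injective _ (hι g₀ hg₀)
    have hQ : spreadQ (Fintype.card F) ≤
        (4 * torT (Fintype.card F) + 1) * (2 * torT (Fintype.card F) + 1) := by
      unfold spreadQ
      obtain ⟨hm, hq⟩ | ⟨hm, hq⟩ := (torT_spec K.hq).2 <;> split_ifs <;>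
        exact Nat.mul_le_mul (by omega) (by omega)
    obtain ⟨m, hm⟩ := (torT_spec K.hq).1
    set j := H.index
    set T := torT (Fintype.card F)
    have hT1 : m = 0 := by
      by_contra hm0
      have : 1 ≤ m := Nat.pos_of_ne_zero hm0
      have := Nat.mul_le_mul hk hj
      nlinarith
    rw [hT1] at hm
    rw [hm] at hk hQ
    have := Nat.mul_le_mul hk (le_refl j)
    nlinarith
  have hall : ∀ g, g⁻¹ * e g ∈ H := by
    intro g
    by_cases hg : g ∈ H
    · rw [hmemH.1 hg, inv_mul_cancel]; exact one_mem H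
    have hsur : Function.Surjective (ι g hg) :=
      ((Nat.bijective_iff_injective_and_card _).2 ⟨hι g hg, by rw [hcard, ← index_eq_card, h5]⟩).2
    obtain ⟨o, ho'⟩ := hsur (e g : L)
    rcases o with _ | p
    · have h' := QuotientGroup.eq.1 ho'
      rw [inv_one, one_mul] at h'
      exact absurd (e.injective (hmemH.1 h')) fun h'' => hg (hmemH.2 h'')
    set h := ((p : L) * g)⁻¹ * e g with hh
    have hhH : h ∈ H := QuotientGroup.eq.1 ho'
    have hm := pow_fix e (g := g) (p := (p : L)) (h := h) (by rw [hh]; group) (hmemH.1 (hPH p.2))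
      (hmemH.1 hhH) (orderOf e)
    rw [pow_orderOf_eq_one, MulAut.one_apply] at hm
    have hp : (p : L) ^ orderOf e = 1 := by
      by_contra hp
      refine hg (hfree g _ (pow_mem p.2 _) ?_ hp)
      rw [show g⁻¹ * (p : L) ^ orderOf e * g = (h ^ orderOf e)⁻¹ by
        rw [eq_inv_iff_mul_eq_one]
        calc g⁻¹ * (p : L) ^ orderOf e * g * h ^ orderOf e = g⁻¹ * ((p : L) ^ orderOf e * g * h ^ orderOf e) := by
              group
          _ = 1 := by rw [← hm, inv_mul_cancel]]
      exact inv_mem (pow_mem hhH _)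
    rw [eq_one_of_pow_odd ho hp (pow_four K F4 p.2), one_mul] at hh
    exact hh ▸ hhH
  refine hne1 (MulEquiv.ext fun x => (inv_mul_eq_one.1 (?_ : x⁻¹ * e x = 1)).symm)
  have hcore : H.normalCore = ⊥ := by
    rcases IsSimpleGroup.eq_bot_or_eq_top_of_normal H.normalCore inferInstance with h | h
    · exact h
    · exact absurd (top_le_iff.1 (h ▸ normalCore_le _)) hHtop
  rw [← mem_bot, ← hcore]
  intro g
  have h1 := hall (x * g⁻¹)
  have h2 := hall g⁻¹
  have := mul_mem h1 (inv_mem h2)
  rw [map_mul] at this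
  rwa [show (x * g⁻¹)⁻¹ * (e x * e g⁻¹) * (g⁻¹⁻¹ * e g⁻¹)⁻¹ = g * (x⁻¹ * e x) * g⁻¹ by group] at this

end Fixed

/-- An automorphism of odd order fixing the centraliser of an involution pointwise is trivial. -/
theorem psl_aut_eq_one {F : Type} [Field F] [Fintype F] (hq : Fintype.card F % 8 = 3 ∨ Fintype.card F % 8 = 5)
    (h5 : 5 ≤ Fintype.card F) (φ : MulAut (Matrix.ProjectiveSpecialLinearGroup (Fin 2) F))
    (ho : Odd (orderOf φ)) {t : Matrix.ProjectiveSpecialLinearGroup (Fin 2) F} (ht : orderOf t = 2)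
    (hfix : ∀ x, Commute x t → φ x = x) : φ = 1 := by
  haveI : IsSimpleGroup (Matrix.ProjectiveSpecialLinearGroup (Fin 2) F) :=
    Matrix.ProjectiveSpecialLinearGroup.rank_two_simple (by rw [Nat.card_eq_fintype_card]; omega)
  exact eq_one_of_fix_cent ⟨inferInstance, by rw [index_top]; exact odd_one, ⟨Subgroup.topEquiv⟩, hq⟩
    ht φ ho hfix

end Cfsg.Lib.Walter
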