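import Cfsg.Agent.Walter.Rot
import Cfsg.Agent.Walter.AutPSL
import Cfsg.Agent.AbCentMax.Final
import Cfsg.Agent.Components.Balance

/-!
The facts used about groups of Janko–Ree type.
-/

set_option autoImplicit false
set_option linter.unusedSectionVars false
set_option linter.style.haveILetI false

namespace Cfsg.Lib.Walter

open Subgroup
open scoped commutatorElement

universe u v

variable {X : Type u} [Group X] [Finite X]

theorem hyp_map {Y : Type u} [Group Y] [Finite Y] (φ : X ≃* Y) {t : X} {E E₀ : Subgroup X} {F : Type v} [Field F]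
    [Fintype F] (h : AbCentMax.Hyp t E E₀ F) :
    AbCentMax.Hyp (φ t) (E.map φ.toMonoidHom) (E₀.map φ.toMonoidHom) F := by
  have hmem : ∀ {H : Subgroup X} {y : Y}, y ∈ H.map φ.toMonoidHom ↔ φ.symm y ∈ H := fun {H y} =>
    ⟨by rintro ⟨x, hx, rfl⟩; simpa using hx, fun hy => ⟨_, hy, φ.apply_symm_apply y⟩⟩
  refine ⟨by rw [φ.orderOf_eq, h.ord], ?_, ?_, ?_, map_mono h.le, ?_, ?_, h.odd, ?_⟩
  · rintro _ ⟨e, he, rfl⟩
    exact (h.comm e he).map φ.toMonoidHom
  · intro x hx
    have hc : Commute (φ.symm x) t := by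
      have := hx.map φ.symm.toMonoidHom
      simpa using this
    obtain ⟨e, he, hxe⟩ := h.split _ hc
    refine ⟨φ e, mem_map_of_mem _ he, hxe.imp (fun e' => ?_) fun e' => ?_⟩
    · rw [← e', φ.apply_symm_apply]
    · rw [← map_mul, ← e', φ.apply_symm_apply]
  · intro ht
    exact h.disj (by simpa using hmem.1 ht)
  · rintro _ ⟨e, he, rfl⟩ _ ⟨x, hx, rfl⟩
    exact ⟨_, h.norm e he x hx, by simp⟩
  · rintro _ ⟨e, he, rfl⟩ hc
    show φ e = 1
    rw [h.faith e he fun x hx => φ.injective (by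
      rw [map_mul, map_mul]; exact (hc _ (mem_map_of_mem _ hx)).eq), map_one]
  · obtain ⟨f⟩ := h.iso
    exact ⟨(E₀.equivMapOfInjective φ.toMonoidHom φ.injective).symm.trans f⟩

theorem sylow_two_comm (hab : AbTwo X) (S : Sylow 2 X) : IsMulCommutative ↥(S : Subgroup X) :=
  ⟨⟨fun a b => Subtype.ext (hab S a a.2 b b.2)⟩⟩

/-- All involutions are conjugate; every one of them has the centraliser of the definition. -/
theorem jr_hyp [IsSimpleGroup X] (hnab : ¬ IsMulCommutative X) (hab : AbTwo X) (hJ : IsJR X) :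
    ∃ (F : Type) (_ : Field F) (_ : Fintype F),
      5 ≤ Fintype.card F ∧ (Fintype.card F % 8 = 3 ∨ Fintype.card F % 8 = 5) ∧
      ∀ x : X, orderOf x = 2 → ∃ (E E₀ : Subgroup X) (T : Sylow 2 X) (a b n : X),
        AbCentMax.Hyp x E E₀ F ∧ AbCentMax.Sys x E₀ T a b n ∧
        (∀ y ∈ T, y ≠ 1 → ∃ g, g ∈ normalizer ((T : Subgroup X) : Set X) ∧ g * x * g⁻¹ = y) := by
  classical
  haveI : Fact (Nat.Prime 2) := ⟨Nat.prime_two⟩
  obtain ⟨-, t, E, E₀, F, iF, iFt, h5, hq, h⟩ := hJ
  refine ⟨F, iF, iFt, h5, hq, ?_⟩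
  have hall : ∀ (s : X) (D D₀ : Subgroup X) (T : Sylow 2 X) (a b n : X), AbCentMax.Hyp s D D₀ F →
      AbCentMax.Sys s D₀ T a b n →
      ∀ y ∈ T, y ≠ 1 → ∃ g, g ∈ normalizer ((T : Subgroup X) : Set X) ∧ g * s * g⁻¹ = y := by
    intro s D D₀ T a b n hs S
    obtain ⟨h8, -⟩ := AbCentMax.three_dvd hs S
    rcases AbCentMax.orbit_dichotomy hs S (H := ⊤) (fun x _ => mem_top x) with hiso | ⟨h1, -⟩
    · exfalso
      obtain ⟨N, hN, hNo, hcomm⟩ := Cfsg.Agent.S0215.result T s hs.ord S.tT (fun g => hiso g (mem_top g))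
      rcases IsSimpleGroup.eq_bot_or_eq_top_of_normal N hN with e | e
      · rcases IsSimpleGroup.eq_bot_or_eq_top_of_normal (center X) inferInstance with e' | e'
        · refine hs.t_ne (mem_bot.1 (e' ▸ mem_center_iff.2 fun g => ?_))
          have := hcomm g
          rw [e, mem_bot, mul_inv_eq_one] at this
          exact (mul_inv_eq_iff_eq_mul.1 this).symm.symm.symm
        · exact hnab ⟨⟨fun x y => (mem_center_iff.1 (e' ▸ mem_top y) x)⟩⟩
      · rw [e, card_top] at hNo
        exact Nat.not_even_iff_odd.2 hNo (even_iff_two_dvd.2 (Dvd.dvd.trans (by norm_num) h8))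
    · exact fun y hy hy1 => let ⟨g, _, hg⟩ := h1 y hy hy1; ⟨g, hg⟩
  obtain ⟨T, a, b, n, S⟩ := AbCentMax.exists_sys h (sylow_two_comm hab)
  intro x hx
  -- move `x` into `T`
  obtain ⟨R, hR⟩ := (IsPGroup.of_card (G := zpowers x) (n := 1)
    (by rw [Nat.card_zpowers, hx, pow_one])).exists_le_sylow
  obtain ⟨k, hk⟩ := MulAction.exists_smul_eq X T R
  have hxk : k⁻¹ * x * k ∈ T := by
    have := hk.symm ▸ hR (mem_zpowers x)
    rw [Sylow.coe_subgroup_smul, mem_pointwise_smul_iff_inv_smul_mem] at this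
    simp at this
    exact this
  obtain ⟨g, -, hg⟩ := hall t E E₀ T a b n h S _ hxk (fun e => by
    rw [show x = k * (k⁻¹ * x * k) * k⁻¹ by group, e] at hx; simp at hx)
  have hxe : MulAut.conj (k * g) t = x := by
    rw [MulAut.conj_apply, show k * g * t * (k * g)⁻¹ = k * (g * t * g⁻¹) * k⁻¹ by group, hg]; group
  have hX := hyp_map (MulAut.conj (k * g)) h
  rw [hxe] at hX
  obtain ⟨T', a', b', n', S'⟩ := AbCentMax.exists_sys hX (sylow_two_comm hab)
  exact ⟨_, _, T', a', b', n', hX, S', hall x _ _ T' a' b' n' hX S'⟩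

/-- Elements of two-power order of `C(a)` lie in `⟨a⟩ E₀`; perfect subgroups of `C(a)` lie in `E₀`. -/
theorem jr_local {a : X} {E E₀ : Subgroup X} {F : Type v} [Field F] [Fintype F] {T : Sylow 2 X} {c b n : X}
    (h : AbCentMax.Hyp a E E₀ F) (S : AbCentMax.Sys a E₀ T c b n) :
    (∀ x, orderOf x = 2 → Commute x a → x ∈ zpowers a ⊔ E₀) ∧
      ∀ P : Subgroup X, P ≤ centralizer ({a} : Set X) → ⁅P, P⁆ = P → P ≤ E₀ := by
  haveI : Fact (Nat.Prime 2) := ⟨Nat.prime_two⟩
  set C := centralizer ({a} : Set X)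
  set N := zpowers a ⊔ E₀ with hN
  have haN : a ∈ N := mem_sup_left (mem_zpowers a)
  have hEN : E₀ ≤ N := le_sup_right
  have haC : a ∈ C := mem_centralizer_singleton_iff.2 rfl
  have hE0C : E₀ ≤ C := fun e he => mem_centralizer_singleton_iff.2 (h.comm e (h.le he)).symm.eq
  have hNC : N ≤ C := sup_le (zpowers_le.2 haC) hE0C
  have hCN : C ≤ normalizer (N : Set X) := by
    intro x hx
    have hxa : x * a * x⁻¹ = a := mul_inv_eq_iff_eq_mul.2 (mem_centralizer_singleton_iff.1 hx)
    refine ZStarApps.mem_normalizer_of_maps fun y hy => ?_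
    have hle : N.map (MulAut.conj x).toMonoidHom ≤ N := by
      rw [hN, Subgroup.map_sup]
      refine sup_le ?_ ?_
      · rw [MonoidHom.map_zpowers]
        exact zpowers_le.2 (by
          show x * a * x⁻¹ ∈ _
          rw [hxa]; exact mem_sup_left (mem_zpowers a))
      · rintro _ ⟨e, he, rfl⟩
        obtain ⟨d, hd, r | r⟩ := h.split x (mem_centralizer_singleton_iff.1 hx)
        · exact mem_sup_right (r ▸ h.norm d hd e he)
        · refine mem_sup_right ?_
          show x * e * x⁻¹ ∈ E₀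
          rw [r, show a * d * e * (a * d)⁻¹ = a * (d * e * d⁻¹) * a⁻¹ by group,
            (h.comm _ (h.le (h.norm d hd e he))).eq, mul_inv_cancel_right]
          exact h.norm d hd e he
    exact hle ⟨y, hy, rfl⟩
  have hTN : (T : Subgroup X) ≤ N := fun x hx => by
    obtain ⟨v, hv, hxv⟩ := S.cases x hx
    have hvE : v ∈ E₀ := by
      rcases hv with rfl | rfl | rfl | rfl
      exacts [one_mem _, S.aE, S.bE, mul_mem S.aE S.bE]
    rcases hxv with rfl | rfl
    · exact hEN hvE
    · exact mul_mem haN (hEN hvE)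
  have hodd : Odd (N.relIndex C) := Nat.not_even_iff_odd.1 fun he =>
    T.not_dvd_index (he.two_dvd.trans ((relIndex_dvd_index_of_le hNC).trans (index_dvd_of_le hTN)))
  haveI : (N.subgroupOf C).Normal := normal_subgroupOf_of_le_normalizer hCN
  refine ⟨fun x hx hxa => ?_, fun P hP hperf => ?_⟩
  · have hxC : x ∈ C := mem_centralizer_singleton_iff.2 hxa.eq
    have h1 : (⟨x, hxC⟩ : C) ^ N.relIndex C ∈ N.subgroupOf C := pow_index_mem _ _
    obtain ⟨k, hk⟩ := hodd
    have h1' : x ^ N.relIndex C ∈ N := by simpa using mem_subgroupOf.1 h1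
    rwa [hk, pow_succ, pow_mul, show x ^ 2 = 1 by rw [← hx, pow_orderOf_eq_one], one_pow, one_mul] at h1'
  · have hPN : P ≤ N := by
      set H := (P.subgroupOf C).map (QuotientGroup.mk' (N.subgroupOf C)) with hH
      haveI : Group.IsSolvable (↥C ⧸ N.subgroupOf C) := Cfsg.Agent.PF.isSolvable_of_odd _ (by
        rw [← index_eq_card]; exact hodd)
      by_contra hcon
      have hne : H ≠ ⊥ := fun e => hcon fun x hx => by
        have hm : (QuotientGroup.mk' (N.subgroupOf C)) ⟨x, hP hx⟩ ∈ H := mem_map_of_mem _ hx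
        rw [e, mem_bot, QuotientGroup.mk'_apply, QuotientGroup.eq_one_iff] at hm
        exact hm
      have h2 := Group.IsSolvable.commutator_lt_of_ne_bot hne
      rw [hH, ← map_commutator] at h2
      refine h2.ne (congrArg _ ?_)
      refine map_injective C.subtype_injective ?_
      rw [map_commutator, map_subgroupOf_eq_of_le hP, hperf]
    -- commutators of `⟨a⟩ E₀` lie in `E₀`
    have hN2 : ∀ y ∈ N, ∃ e ∈ E₀, y = e ∨ y = a * e := by
      intro y hy
      refine Subgroup.closure_induction (p := fun y _ => ∃ e ∈ E₀, y = e ∨ y = a * e) ?_ ?_ ?_ ?_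
        (show y ∈ closure ({a} ∪ (E₀ : Set X)) by
          rwa [Subgroup.closure_union, ← zpowers_eq_closure, Subgroup.closure_eq, ← hN])
      · rintro z (rfl | hz)
        · exact ⟨1, one_mem _, Or.inr (mul_one _).symm⟩
        · exact ⟨z, hz, Or.inl rfl⟩
      · exact ⟨1, one_mem _, Or.inl rfl⟩
      · rintro y z - - ⟨e, he, hy⟩ ⟨f, hf, hz⟩
        refine ⟨e * f, mul_mem he hf, ?_⟩
        have e1 : Commute a e := (h.comm e (h.le he))
        rcases hy with hy | hy <;> rcases hz with hz | hz <;> rw [hy, hz]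
        · exact Or.inl rfl
        · exact Or.inr (by rw [← mul_assoc, ← e1.eq, mul_assoc])
        · exact Or.inr (mul_assoc _ _ _)
        · exact Or.inl (by rw [e1.symm.mul_mul_mul_comm, h.tt, one_mul])
      · rintro y - ⟨e, he, hy⟩
        refine ⟨e⁻¹, inv_mem he, hy.imp (fun r => by rw [r]) fun r => ?_⟩
        rw [r, mul_inv_rev, h.t_inv, (h.comm _ (h.le (inv_mem he))).eq]
    rw [← hperf, commutator_le]
    intro y hy z hz
    obtain ⟨e, he, hy'⟩ := hN2 y (hPN hy)
    obtain ⟨f, hf, hz'⟩ := hN2 z (hPN hz)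
    have hc : ∀ d ∈ E₀, a * d = d * a := fun d hd => (h.comm d (h.le hd)).eq
    have : ⁅y, z⁆ = ⁅e, f⁆ := by
      have e1 : Commute a e := hc e he
      have e2 : Commute a f := hc f hf
      rcases hy' with hy' | hy' <;> rcases hz' with hz' | hz' <;> rw [hy', hz']
      · simp only [commutatorElement_def, mul_inv_rev, h.t_inv]
        calc e * (a * f) * e⁻¹ * (f⁻¹ * a) = (e * a) * f * e⁻¹ * f⁻¹ * a := by group
          _ = a * (e * f * e⁻¹ * f⁻¹) * a := by rw [← e1.eq]; group
          _ = e * f * e⁻¹ * f⁻¹ := by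
            rw [(hc _ (mul_mem (mul_mem (mul_mem he hf) (inv_mem he)) (inv_mem hf))), mul_assoc, h.tt, mul_one]
      · simp only [commutatorElement_def, mul_inv_rev, h.t_inv]
        calc a * e * f * (e⁻¹ * a) * f⁻¹ = a * e * f * e⁻¹ * (a * f⁻¹) := by group
          _ = a * (e * f * e⁻¹ * f⁻¹) * a := by rw [e2.inv_right.eq]; group
          _ = e * f * e⁻¹ * f⁻¹ := by
            rw [(hc _ (mul_mem (mul_mem (mul_mem he hf) (inv_mem he)) (inv_mem hf))), mul_assoc, h.tt, mul_one]
      · simp only [commutatorElement_def, mul_inv_rev, h.t_inv]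
        calc a * e * (a * f) * (e⁻¹ * a) * (f⁻¹ * a) = a * (e * a) * f * e⁻¹ * (a * f⁻¹) * a := by group
          _ = a * (a * e) * f * e⁻¹ * (f⁻¹ * a) * a := by rw [← e1.eq, e2.inv_right.eq]
          _ = (a * a) * (e * f * e⁻¹ * f⁻¹) * (a * a) := by group
          _ = e * f * e⁻¹ * f⁻¹ := by rw [h.tt, one_mul, mul_one]
    rw [this]
    exact mul_mem (mul_mem (mul_mem he hf) (inv_mem he)) (inv_mem hf)

/-- The facts used about groups of Janko–Ree type. -/
theorem jr_facts [IsSimpleGroup X] (hnab : ¬ IsMulCommutative X) (hab : AbTwo X) (hJ : IsJR X) :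
    (∀ P : Sylow 2 X, Nat.card ↥(P : Subgroup X) = 8 ∧ (∀ x ∈ P, x * x = 1) ∧ Rot (P : Subgroup X)) ∧
      (∀ x : X, orderOf x = 2 → Cfsg.centralizerPPrimeCore 2 x = ⊥) ∧
      ∀ (e : MulAut X) (x : X), orderOf x = 2 → Odd (orderOf e) → (∀ y, y * x = x * y → e y = y) → e = 1 := by
  classical
  haveI : Fact (Nat.Prime 2) := ⟨Nat.prime_two⟩
  obtain ⟨F, iF, iFt, h5, hq, hyp⟩ := jr_hyp hnab hab hJ
  refine ⟨fun P => ?_, fun x hx => ?_, fun e x hx ho hfix => ?_⟩
  · obtain ⟨-, t, E', E₀', F', iF', iFt', -, -, ht'⟩ := hJ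
    obtain ⟨E, E₀, T, a, b, n, h, S, hall⟩ := hyp t ht'.ord
    obtain ⟨-, hT8⟩ := AbCentMax.three_dvd h S
    have hTsq : ∀ y ∈ T, y * y = 1 := by
      intro y hy
      obtain ⟨v, hv, hyv⟩ := S.cases y hy
      have hvv : v * v = 1 ∧ Commute t v := by
        rcases hv with rfl | rfl | rfl | rfl
        · exact ⟨one_mul 1, Commute.one_right t⟩
        · exact ⟨AbCentMax.aa h S, S.tcomm t S.tT _ S.aT⟩
        · exact ⟨AbCentMax.bb h S, S.tcomm t S.tT _ S.bT⟩
        · exact ⟨GenDihedral.mul_self_of_two (AbCentMax.ab_order h S),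
            S.tcomm t S.tT _ (mul_mem S.aT S.bT)⟩
      rcases hyv with rfl | rfl
      · exact hvv.1
      · rw [hvv.2.symm.mul_mul_mul_comm, h.tt, hvv.1, one_mul]
    obtain ⟨g, hg⟩ := MulAction.exists_smul_eq X T P
    refine ⟨?_, ?_, Rot.conj_sylow T P ?_⟩
    · rw [Nat.card_congr (Sylow.equiv P T).toEquiv, hT8]
    · intro y hy
      rw [← hg, ← SetLike.mem_coe, Sylow.coe_smul, Set.mem_smul_set_iff_inv_smul_mem] at hy
      have h1 := hTsq _ hy
      refine (conj_eq_one_iff (a := g⁻¹)).1 ?_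
      calc g⁻¹ * (y * y) * (g⁻¹)⁻¹ = (g⁻¹ * y * g) * (g⁻¹ * y * g) := by group
        _ = 1 := by simpa using h1
    refine rot_of_prime (ℓ := 7) (by norm_num) hT8 (Or.inr rfl) ?_
    -- the orbit of `t` has seven points
    set N := normalizer ((T : Subgroup X) : Set X)
    letI : MulAction N X := MulAction.compHom X ((ConjAct.toConjAct (G := X)).toMonoidHom.comp N.subtype)
    have hsmul : ∀ (g : N) (y : X), g • y = (g : X) * y * (g : X)⁻¹ := fun g y => ConjAct.toConjAct_smul _ _
    have horb : MulAction.orbit N t = ((T : Subgroup X) : Set X) \ {1} := by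
      ext y
      constructor
      · rintro ⟨g, rfl⟩
        show g • t ∈ _
        rw [hsmul]
        exact ⟨(mem_normalizer_iff.1 g.2 t).1 S.tT, fun e => h.t_ne (conj_eq_one_iff.1 e)⟩
      · rintro ⟨hy, hy1⟩
        obtain ⟨g, hgN, hg⟩ := hall y hy hy1
        exact ⟨⟨g, hgN⟩, (hsmul _ _).trans hg⟩
    have h7 : (MulAction.stabilizer N t).index = 7 := by
      rw [MulAction.index_stabilizer, horb, Set.ncard_sdiff_singleton_of_mem (one_mem _),
        ← Nat.card_coe_set_eq]
      show Nat.card ↥(T : Subgroup X) - 1 = 7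
      rw [hT8]
    refine h7 ▸ index_dvd_of_le fun g hg => MulAction.mem_stabilizer_iff.2 ?_
    rw [hsmul, mul_inv_eq_iff_eq_mul]
    exact (mem_centralizer_iff.1 (mem_subgroupOf.1 hg) t S.tT).symm
  · obtain ⟨E, E₀, T, a, b, n, h, S, hall⟩ := hyp x hx
    refine AbCentMax.odd_core_trivial h S ?_ ?_ hall
    · exact Nat.coprime_two_right.1 (Cfsg.Lib.Components.centralizerPPrimeCore_card_coprime (p := 2) x)
    · intro c hc y hy
      obtain ⟨z, hz, rfl⟩ := hy
      haveI : (Cfsg.pPrimeCore 2 ↥(centralizer ({x} : Set X))).Normal :=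
        Cfsg.Lib.Components.normal_of_mem_sSup_normal fun _ h => h.1
      exact ⟨⟨c, mem_centralizer_singleton_iff.2 hc.eq⟩ * z * ⟨c, mem_centralizer_singleton_iff.2 hc.eq⟩⁻¹,
        Subgroup.Normal.conj_mem inferInstance z hz _, rfl⟩
  · obtain ⟨E, E₀, T, a, b, n, h, S, hall⟩ := hyp x hx
    obtain ⟨E', E₀', T', a', b', n', h', S', -⟩ := hyp a S.ao
    obtain ⟨hloc, hperf⟩ := jr_local h' S'
    have hax : Commute a x := (h.comm a (h.le S.aE)).symm
    have hea : e a = a := hfix a hax.eq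
    haveI : IsSimpleGroup (Matrix.ProjectiveSpecialLinearGroup (Fin 2) F) :=
      Matrix.ProjectiveSpecialLinearGroup.rank_two_simple (by rw [Nat.card_eq_fintype_card]; omega)
    obtain ⟨f⟩ := h'.iso
    haveI : IsSimpleGroup ↥E₀' := f.isSimpleGroup
    have hnc : center ↥E₀' = ⊥ := by
      rcases IsSimpleGroup.eq_bot_or_eq_top_of_normal (center ↥E₀') inferInstance with r | r
      · exact r
      · refine absurd (h'.faith a' (h'.le S'.aE) fun y hy => ?_) fun r' => by
          have := S'.ao; rw [r', orderOf_one] at this; omega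
        exact congrArg Subtype.val (mem_center_iff.1 (r ▸ mem_top (⟨y, hy⟩ : E₀')) ⟨a', S'.aE⟩)
    have hperfE : ⁅E₀', E₀'⁆ = E₀' := by
      have h1 : commutator ↥E₀' = ⊤ := by
        rcases IsSimpleGroup.eq_bot_or_eq_top_of_normal (commutator ↥E₀') inferInstance with r | r
        · rw [commutator_eq_bot_iff_center_eq_top, hnc] at r
          exact absurd r bot_ne_top
        · exact r
      have := congrArg (Subgroup.map E₀'.subtype) h1
      rwa [_root_.commutator_def, map_commutator, ← MonoidHom.range_eq_map, range_subtype] at this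
    have hmap : E₀'.map e.toMonoidHom = E₀' := by
      refine Subgroup.eq_of_le_of_card_ge (hperf _ ?_ ?_) (by rw [card_map_of_injective e.injective])
      · rintro _ ⟨y, hy, rfl⟩
        refine mem_centralizer_singleton_iff.2 ?_
        have := congrArg e (h'.comm y (h'.le hy)).eq
        rw [map_mul, map_mul, hea] at this
        exact this.symm
      · rw [← map_commutator, hperfE]
    let e₀ : MulAut ↥E₀' := (e.subgroupMap E₀').trans (MulEquiv.subgroupCongr hmap)
    have he₀ : ∀ y : E₀', ((e₀ y : E₀') : X) = e y := fun y => rfl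
    have he₀n : ∀ (k : ℕ) (y : E₀'), (((e₀ ^ k) y : E₀') : X) = (e ^ k) y := by
      intro k
      induction k with
      | zero => simp
      | succ k ih => intro y; rw [pow_succ', pow_succ', MulAut.mul_apply, MulAut.mul_apply, he₀, ih]
    have ho₀ : Odd (orderOf e₀) := ho.of_dvd_nat (orderOf_dvd_of_pow_eq_one (MulEquiv.ext fun y =>
      Subtype.ext (by rw [he₀n, pow_orderOf_eq_one]; rfl)))
    -- `x` modulo `a`
    have hv : ∃ w ∈ E₀', x = w ∨ x = a * w := by
      have hm := hloc x hx hax.symm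
      have hle : zpowers a ≤ normalizer (E₀' : Set X) := by
        refine le_trans (zpowers_le.2 ?_) (centralizer_le_normalizer _)
        exact mem_centralizer_iff.2 fun y hy => (h'.comm y (h'.le hy)).eq.symm
      rw [← SetLike.mem_coe, coe_mul_of_left_le_normalizer_right _ _ hle] at hm
      obtain ⟨p, hp, q, hq', hpq⟩ := hm
      obtain ⟨i, rfl⟩ := hp
      refine ⟨q, hq', ?_⟩
      rw [← hpq]
      rcases Int.emod_two_eq i with r | r
      · exact Or.inl (by simp [← zpow_mod_orderOf, S.ao, r])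
      · exact Or.inr (by simp [← zpow_mod_orderOf, S.ao, r])
    obtain ⟨w, hw, hxw⟩ := hv
    have haw : Commute a w := h'.comm w (h'.le hw)
    have hw2 : orderOf w = 2 := by
      have hsq : w * w = 1 := by
        have hxx := GenDihedral.mul_self_of_two hx
        rcases hxw with r | r
        · rw [← r]; exact hxx
        · rwa [r, haw.symm.mul_mul_mul_comm, h'.tt, one_mul] at hxx
      refine (GenDihedral.two_or_one hsq).resolve_left fun r => ?_
      rcases hxw with r' | r'
      · rw [r', r] at hx; simp at hx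
      · rw [r, mul_one] at r'
        exact h.disj (r' ▸ h.le S.aE)
    have hCw : ∀ y ∈ E₀', y * w = w * y → y * x = x * y := by
      intro y hy hyw
      rcases hxw with r | r
      · rw [r]; exact hyw
      · rw [r]; exact (((h'.comm y (h'.le hy)).symm).mul_right hyw).eq
    have h1 : e₀ = 1 := eq_one_of_fix_cent (F := F)
      (⟨inferInstance, by rw [index_top]; exact odd_one, ⟨Subgroup.topEquiv.trans f⟩, hq⟩ :
        FourGW.Top F (⊤ : Subgroup ↥E₀'))
      (v := ⟨w, hw⟩) (by rw [Subgroup.orderOf_mk, hw2]) e₀ ho₀ fun y hy => Subtype.ext (by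
        rw [he₀]; exact hfix y (hCw y y.2 (congrArg Subtype.val hy)))
    set H := MonoidHom.eqLocus e.toMonoidHom (MonoidHom.id X)
    have hCH : centralizer ({x} : Set X) ≤ H := fun y hy => hfix y (mem_centralizer_singleton_iff.1 hy)
    have hEH : E₀' ≤ H := fun y hy => by
      have := congrArg Subtype.val (MulEquiv.ext_iff.1 h1 ⟨y, hy⟩)
      exact this
    obtain ⟨-, hmax⟩ := AbCentMax.centralizer_isCoatom hnab h (sylow_two_comm hab)
    have hlt : centralizer ({x} : Set X) < H := by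
      refine lt_of_le_of_ne hCH fun r => ?_
      have : (⟨w, hw⟩ : E₀') ∈ center ↥E₀' := mem_center_iff.2 fun y => Subtype.ext (by
        have h2 : (y : X) ∈ centralizer ({x} : Set X) := r ▸ hEH y.2
        have h3 : Commute (y : X) x := mem_centralizer_singleton_iff.1 h2
        show (y : X) * w = w * y
        rcases hxw with r' | r'
        · rw [← r']; exact h3.eq
        · have : w = a * x := by rw [r', ← mul_assoc, h'.tt, one_mul]
          rw [this]
          exact (((h'.comm _ (h'.le y.2)).symm).mul_right h3).eq)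
      rw [hnc, mem_bot] at this
      have := congrArg Subtype.val this
      simp only [OneMemClass.coe_one] at this
      rw [this, orderOf_one] at hw2
      omega
    exact MulEquiv.ext fun y => (hmax H hlt).ge (mem_top y)

end Cfsg.Lib.Walter
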