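import Cfsg.Agent.GWFour.Consumers.Target
import Cfsg.Agent.AbCentMax.Setup
import Cfsg.Agent.BenderSE.Final

/-!
Walter's theorem on simple groups with abelian Sylow 2-subgroups, without recognition of the Ree groups:
types, the minimal configuration, and the interfaces between the pieces (`notes/walter_v1.md`).
-/

set_option autoImplicit false
set_option linter.unusedSectionVars false

namespace Cfsg.Lib.Walter

open Subgroup

universe u

/-- The Sylow 2-subgroups are abelian. -/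
def AbTwo (X : Type u) [Group X] : Prop :=
  ∀ S : Sylow 2 X, ∀ x ∈ S, ∀ y ∈ S, x * y = y * x

/-- `PSL(2, 2^n)` with `n ≥ 2`. -/
def IsBinaryPSL (X : Type u) [Group X] : Prop :=
  ∃ (F : Type) (_ : Field F) (_ : Fintype F), (∃ n : ℕ, 2 ≤ n ∧ Fintype.card F = 2 ^ n) ∧
    Nonempty (X ≃* Matrix.ProjectiveSpecialLinearGroup (Fin 2) F)

/-- Janko–Ree type: Sylow 2-subgroups of order 8 and an involution with centraliser `⟨t⟩ × E`,
`PSL(2, q) ≤ E ≤ Aut PSL(2, q)`, `q ≡ 3, 5 (mod 8)`, `q ≥ 5`. -/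
def IsJR (X : Type u) [Group X] [Finite X] : Prop :=
  (∀ S : Sylow 2 X, Nat.card ↥(S : Subgroup X) = 8) ∧
    ∃ (t : X) (E E₀ : Subgroup X) (F : Type) (_ : Field F) (_ : Fintype F),
      5 ≤ Fintype.card F ∧ (Fintype.card F % 8 = 3 ∨ Fintype.card F % 8 = 5) ∧
        AbCentMax.Hyp t E E₀ F

/-- The types in the conclusion. -/
def Typed (X : Type u) [Group X] [Finite X] : Prop :=
  IsBinaryPSL X ∨ GWFour.IsSmallSylowPSL X ∨ IsJR X

/-- The theorem. -/
def WalterProp : Prop :=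
  ∀ (X : Type u) [Group X] [Finite X] [IsSimpleGroup X], ¬ IsMulCommutative X → AbTwo X → Typed X

/-- The theorem below a given order. -/
def Below (n : ℕ) : Prop :=
  ∀ (X : Type u) [Group X] [Finite X] [IsSimpleGroup X],
    ¬ IsMulCommutative X → AbTwo X → Nat.card X < n → Typed X

/-- The configuration of the induction step. -/
structure Min (G : Type u) [Group G] [Finite G] : Prop where
  simple : IsSimpleGroup G
  nab : ¬ IsMulCommutative G
  ab : AbTwo G
  below : Below.{u} (Nat.card G)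
  four : GWFour.FourGroupProp.{u}

variable {G : Type u} [Group G] [Finite G]

/-- `O(C(t))`. -/
abbrev Oc (t : G) : Subgroup G := Cfsg.centralizerPPrimeCore 2 t

/-- `Z_L`: the fixed points of `N_L(S)` on the Sylow 2-subgroup `S`. -/
def ZL (S L : Subgroup G) : Subgroup G :=
  S ⊓ centralizer ((L ⊓ normalizer (S : Set G) : Subgroup G) : Set G)

/-- `L` is a 2-component of `C(t)`. -/
def IsComp (t : G) (L : Subgroup G) : Prop :=
  Cfsg.IsPComponentOf 2 L (centralizer ({t} : Set G))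

/-- `x` acts trivially on `L` modulo `O(C(t))`. -/
def Triv (t : G) (L : Subgroup G) (x : G) : Prop := ∀ l ∈ L, x * l * x⁻¹ * l⁻¹ ∈ Oc t

/-- The local facts proved from the induction hypothesis (piece P2); `S` is elementary here. -/
structure Local (S : Sylow 2 G) : Prop where
  sq : ∀ x ∈ S, x * x = 1
  le_norm : ∀ {t L}, t ∈ S → orderOf t = 2 → IsComp t L → (S : Subgroup G) ≤ normalizer (L : Set G)
  mem_ZL : ∀ {t L}, t ∈ S → orderOf t = 2 → IsComp t L → t ∈ ZL (S : Subgroup G) L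
  split : ∀ {t L}, t ∈ S → orderOf t = 2 → IsComp t L →
    ZL (S : Subgroup G) L ⊓ ((S : Subgroup G) ⊓ L) = ⊥ ∧
      ZL (S : Subgroup G) L ⊔ ((S : Subgroup G) ⊓ L) = S
  triv_ZL : ∀ {t L z}, t ∈ S → orderOf t = 2 → IsComp t L → z ∈ ZL (S : Subgroup G) L → Triv t L z
  -- the inequality from the odd linear group lemma
  dims : ∀ {t L}, t ∈ S → orderOf t = 2 → IsComp t L → 4 ≤ Nat.card ↥((S : Subgroup G) ⊓ L) ∧
    ((Nat.card ↥((S : Subgroup G) ⊓ L) = 4 ∧ Nat.card ↥(S : Subgroup G) = 8) ∨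
      4 * Nat.card ↥((S : Subgroup G) ⊓ L) ^ 2 ≤ Nat.card ↥(S : Subgroup G))
  -- different components centralise each other's Sylow subgroups
  other : ∀ {t L L'}, t ∈ S → orderOf t = 2 → IsComp t L → IsComp t L' → L ≠ L' →
    (S : Subgroup G) ⊓ L' ≤ ZL (S : Subgroup G) L
  -- L-balance along `Z_L`
  lift : ∀ {t L b}, t ∈ S → orderOf t = 2 → IsComp t L → b ∈ ZL (S : Subgroup G) L → b ≠ 1 →
    ∃ K, IsComp b K ∧ ZL (S : Subgroup G) K ≤ ZL (S : Subgroup G) L ∧
      (S : Subgroup G) ⊓ L ≤ (S : Subgroup G) ⊓ K ∧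
        L ⊓ centralizer ({b} : Set G) ≤ K ⊔ Oc b ⊔ (Oc t ⊓ centralizer ({b} : Set G))
  -- the centraliser of an involution: core, components, normaliser of the Sylow subgroup
  generated : ∀ {t}, t ∈ S → orderOf t = 2 → centralizer ({t} : Set G) ≤
    (Oc t ⊔ ⨆ L : {L : Subgroup G // IsComp t L}, (L : Subgroup G)) ⊔
      (normalizer ((S : Subgroup G) : Set G) ⊓ centralizer ({t} : Set G))
  -- unbalance happens only at small components moved by the other involution
  bal : ∀ {t b L x}, t ∈ S → orderOf t = 2 → b ∈ S → orderOf b = 2 → IsComp t L →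
    x ∈ Oc b → x ∈ centralizer ({t} : Set G) →
    (b ∈ ZL (S : Subgroup G) L ∨ Nat.card ↥((S : Subgroup G) ⊓ L) ≠ 4) → Triv t L x
  -- faithfulness on the components
  faith : ∀ {t b x}, t ∈ S → orderOf t = 2 → b ∈ S → orderOf b = 2 →
    x ∈ Oc b → x ∈ centralizer ({t} : Set G) → (∀ L, IsComp t L → Triv t L x) → x ∈ Oc t
  exists_comp : ∀ {t}, t ∈ S → orderOf t = 2 → ¬ Group.IsSolvable ↥(centralizer ({t} : Set G)) →
    ∃ L, IsComp t L

/-- The data of the branch of rank three at one involution: `C(t)/O(C(t))` is `⟨t⟩` times an almost simple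
group over `PSL(2, q)`, `q ≡ 3, 5 (mod 8)`, `q ≥ 5`. -/
def ThreeData (t : G) : Prop :=
  ∃ (F : Type) (_ : Field F) (_ : Fintype F) (E E₀ : Subgroup (↥(centralizer ({t} : Set G)) ⧸
      Cfsg.pPrimeCore 2 ↥(centralizer ({t} : Set G)))),
    5 ≤ Fintype.card F ∧ (Fintype.card F % 8 = 3 ∨ Fintype.card F % 8 = 5) ∧
      Cfsg.IsInternalDirectProduct (zpowers ↑(⟨t, mem_centralizer_singleton_iff.2 rfl⟩ :
        ↥(centralizer ({t} : Set G)))) E ⊤ ∧
      E₀ ≤ E ∧ E₀.Normal ∧ Odd (E₀.relIndex E) ∧ E ⊓ centralizer (E₀ : Set _) = ⊥ ∧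
      Nonempty (↥E₀ ≃* Matrix.ProjectiveSpecialLinearGroup (Fin 2) F)

/-- The branch of rank three (piece P3). -/
structure Three (S : Sylow 2 G) : Prop where
  card : Nat.card ↥(S : Subgroup G) = 8
  sq : ∀ x ∈ S, x * x = 1
  trans : ∀ x ∈ S, ∀ y ∈ S, x ≠ 1 → y ≠ 1 →
    ∃ g ∈ normalizer ((S : Subgroup G) : Set G), g * x * g⁻¹ = y
  data : ∀ t ∈ S, t ≠ 1 → ThreeData t

/-- P1 + P2: without solvable centralisers the configuration splits in the two branches. -/
def SplitSpec (G : Type u) [Group G] [Finite G] : Prop :=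
  Min G → ∀ S : Sylow 2 G, (∃ t : G, orderOf t = 2 ∧ ¬ Group.IsSolvable ↥(centralizer ({t} : Set G))) →
    Local S ∧ (Three S ∨
      ∀ {t L}, t ∈ S → orderOf t = 2 → IsComp t L →
        4 * Nat.card ↥((S : Subgroup G) ⊓ L) ^ 2 ≤ Nat.card ↥(S : Subgroup G))

/-- P3: in the branch of rank three the group has Janko–Ree type. -/
def ThreeSpec (G : Type u) [Group G] [Finite G] : Prop :=
  Min G → ∀ S : Sylow 2 G, Local S → Three S → IsJR G

/-- P4: the other branch does not occur. -/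
def BigSpec (G : Type u) [Group G] [Finite G] : Prop :=
  Min G → ∀ S : Sylow 2 G, Local S →
    (∃ t : G, orderOf t = 2 ∧ ¬ Group.IsSolvable ↥(centralizer ({t} : Set G))) →
    (∀ {t L}, t ∈ S → orderOf t = 2 → IsComp t L →
      4 * Nat.card ↥((S : Subgroup G) ⊓ L) ^ 2 ≤ Nat.card ↥(S : Subgroup G)) → False

end Cfsg.Lib.Walter
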