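import Cfsg.Agent.Walter.TypeBinary
import Cfsg.Agent.Walter.TypeJR
import Cfsg.Agent.Components.GenFitting
import Cfsg.Agent.Components.Structure
import Cfsg.Agent.Components.PComponentsExtra
import Cfsg.Agent.Components.LocalBalance
import Cfsg.Agent.Components.BalanceDelta
import Cfsg.Agent.Components.Local
import Cfsg.Agent.BenderSE.Ring2.Solvable
import Cfsg.Agent.S4593

/-!
A group without odd core, with abelian Sylow 2-subgroups and typed simple subgroups: the components are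
simple, normalised by the Sylow subgroup, and act on it as the product decomposition says; balance.
-/

set_option autoImplicit false
set_option linter.unusedSectionVars false
set_option linter.style.haveILetI false

namespace Cfsg.Lib.Walter

open Subgroup Cfsg.Lib.Components
open scoped commutatorElement

universe u

variable {X : Type u} [Group X] [Finite X]

/-- Abelian Sylow subgroups give commuting 2-subgroups. -/
theorem AbTwo.comm (hab : AbTwo X) {P : Subgroup X} (hP : IsPGroup 2 P) {x y : X} (hx : x ∈ P) (hy : y ∈ P) :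
    x * y = y * x := by
  obtain ⟨R, hR⟩ := hP.exists_le_sylow
  exact hab R x (hR hx) y (hR hy)

theorem AbTwo.subgroup (hab : AbTwo X) (H : Subgroup X) : AbTwo ↥H := fun R x hx y hy =>
  Subtype.ext (hab.comm (R.isPGroup'.map H.subtype) ⟨x, hx, rfl⟩ ⟨y, hy, rfl⟩)

theorem AbTwo.of_surjective (hab : AbTwo X) {Y : Type u} [Group Y] {f : X →* Y} (hf : Function.Surjective f) :
    AbTwo Y := by
  haveI : Fact (Nat.Prime 2) := ⟨Nat.prime_two⟩
  haveI : Finite Y := Finite.of_surjective f hf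
  intro R x hx y hy
  obtain ⟨P⟩ := (inferInstance : Nonempty (Sylow 2 X))
  obtain ⟨g, hg⟩ := MulAction.exists_smul_eq Y (P.mapSurjective hf) R
  obtain ⟨k, rfl⟩ := hf g
  have key : ∀ z ∈ R, ∃ p ∈ (P : Subgroup X), z = f (k * p * k⁻¹) := by
    intro z hz
    rw [← hg, ← SetLike.mem_coe, Sylow.coe_smul, Set.mem_smul_set_iff_inv_smul_mem] at hz
    obtain ⟨p, hp, hpz⟩ := hz
    refine ⟨p, hp, ?_⟩
    rw [map_mul, map_mul, map_inv]
    have hpz' : f p = (f k)⁻¹ * z * f k := by simpa using hpz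
    rw [hpz']; group
  obtain ⟨p, hp, rfl⟩ := key x hx
  obtain ⟨r, hr, rfl⟩ := key y hy
  rw [← map_mul, ← map_mul, _root_.conj_mul, _root_.conj_mul, hab P p hp r hr]

/-- The setting: no odd core and typed simple subgroups. -/
structure CoreFree (T : Sylow 2 X) : Prop where
  ab : AbTwo X
  core : Cfsg.pPrimeCore 2 X = ⊥
  typed : ∀ L : Subgroup X, IsSimpleGroup ↥L → ¬ IsMulCommutative ↥L → Typed ↥L
  four : GWFour.FourGroupProp.{u}

/-- A rotation of `P` inside `L` centralising a complement `Z`. -/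
def RotIn (T P L : Subgroup X) : Prop :=
  ∃ r ∈ L, r ∈ normalizer (T : Set X) ∧
    (∀ k : ℕ, Nat.card P - 1 ∣ k → ∀ x ∈ P, r ^ k * x * (r ^ k)⁻¹ = x) ∧
      ∀ k : ℕ, ¬ Nat.card P - 1 ∣ k → ∀ x ∈ P, r ^ k * x * (r ^ k)⁻¹ = x → x = 1

variable {T : Sylow 2 X} (A : CoreFree T) {L : Subgroup X} (hL : Cfsg.IsComponent L)
include A hL

theorem comp_center : L ⊓ centralizer (L : Set X) = ⊥ := by
  classical
  haveI : Fact (Nat.Prime 2) := ⟨Nat.prime_two⟩
  refine eq_bot_iff.2 fun z hz => ?_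
  obtain ⟨P⟩ := (inferInstance : Nonempty (Sylow 2 ↥L))
  have hP := A.ab.subgroup L P
  letI : CommGroup ↥(P : Subgroup ↥L) :=
    { (inferInstance : Group ↥(P : Subgroup ↥L)) with mul_comm := fun a b => Subtype.ext (hP a a.2 b b.2) }
  let z' : L := ⟨z, hz.1⟩
  have hzc : ∀ k : L, k * z' = z' * k := fun k => Subtype.ext (mem_centralizer_iff.1 hz.2 k k.2)
  have hone : ∀ g : L, MonoidHom.transfer (MonoidHom.id ↥(P : Subgroup ↥L)) g = 1 := fun g => by
    have h := Abelianization.commutator_subset_ker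
      (MonoidHom.transfer (MonoidHom.id ↥(P : Subgroup ↥L)))
    have htop : _root_.commutator ↥L = ⊤ := by
      rw [_root_.commutator_def]; exact qs_commutator_top hL.2
    exact h (htop ▸ mem_top g)
  have key : ∀ (k : ℕ) (g₀ : L), g₀⁻¹ * z' ^ k * g₀ ∈ (P : Subgroup ↥L) → g₀⁻¹ * z' ^ k * g₀ = z' ^ k :=
    fun k g₀ _ => by
      have hc : Commute g₀ (z' ^ k) := (show Commute g₀ z' from hzc g₀).pow_right k
      rw [mul_assoc, ← hc.eq, inv_mul_cancel_left]
  have h1 : z' ^ (P : Subgroup ↥L).index = 1 := by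
    have h := hone z'
    rw [MonoidHom.transfer_eq_pow (MonoidHom.id ↥(P : Subgroup ↥L)) z' key] at h
    exact congrArg Subtype.val h
  have h1' : z ^ (P : Subgroup ↥L).index = 1 := congrArg Subtype.val h1
  obtain ⟨j, hj⟩ := isPGroup_pCore 2 ⟨z, center_component_le_pCore (p := 2) A.core hL hz⟩
  have hj' : z ^ 2 ^ j = 1 := congrArg Subtype.val hj
  refine mem_bot.2 (orderOf_eq_one_iff.1 (Nat.eq_one_of_dvd_coprimes ?_ (orderOf_dvd_of_pow_eq_one hj')
    (orderOf_dvd_of_pow_eq_one h1')))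
  exact ((Nat.Prime.coprime_iff_not_dvd Nat.prime_two).2 P.not_dvd_index).pow_left j

theorem comp_simple : IsSimpleGroup ↥L ∧ ¬ IsMulCommutative ↥L := by
  have hc : center ↥L = ⊥ := by
    refine eq_bot_iff.2 fun z hz => mem_bot.2 (Subtype.ext (mem_bot.1 ((comp_center A hL).le ⟨z.2, ?_⟩)))
    exact mem_centralizer_iff.2 fun y hy => congrArg Subtype.val (mem_center_iff.1 hz ⟨y, hy⟩)
  refine ⟨?_, comp_not_isMulCommutative hL⟩
  haveI := hL.2.2
  exact (QuotientGroup.quotientBot.symm.trans (QuotientGroup.quotientMulEquivOfEq hc.symm)).isSimpleGroup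

theorem comp_typed : Typed ↥L := A.typed L (comp_simple A hL).1 (comp_simple A hL).2

theorem sylow_comp : ∃ P : Sylow 2 ↥L, (P : Subgroup ↥L) = (T : Subgroup X).subgroupOf L := by
  haveI : Fact (Nat.Prime 2) := ⟨Nat.prime_two⟩
  haveI : (Cfsg.layer X).Normal := inferInstance
  refine ⟨(T.isPGroup'.comap_of_injective L.subtype L.subtype_injective).toSylow ?_, rfl⟩
  -- `L` is normal in the normal subgroup `layer`
  set E := Cfsg.layer X
  haveI : (L.subgroupOf E).Normal := normal_subgroupOf_of_le_normalizer (comp_normal_in_layer hL)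
  have h1 : ¬ 2 ∣ ((T : Subgroup X).subgroupOf E).index := by
    show ¬ 2 ∣ (T : Subgroup X).relIndex E
    rw [Cfsg.Lib.Transfer.relIndex_eq_relIndex_sup_of_normal _ E]
    exact fun h => T.not_dvd_index (h.trans (Dvd.intro _ (relIndex_mul_index le_sup_left)))
  have h2 : ((T : Subgroup X).subgroupOf E).relIndex (L.subgroupOf E) =
      (T : Subgroup X).relIndex L := relIndex_subgroupOf (comp_le_layer hL)
  show ¬ 2 ∣ (T : Subgroup X).relIndex L
  rw [← h2, Cfsg.Lib.Transfer.relIndex_eq_relIndex_sup_of_normal _ (L.subgroupOf E)]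
  exact fun h => h1 (h.trans (Dvd.intro _ (relIndex_mul_index le_sup_left)))

theorem card_four_or : ∀ P : Sylow 2 ↥L, (∀ x ∈ P, x * x = 1) ∧ 4 ≤ Nat.card ↥(P : Subgroup ↥L) ∧
    Rot (P : Subgroup ↥L) ∧
    (Nat.card ↥(P : Subgroup ↥L) ≠ 4 →
      ∀ v ∈ P, v ≠ 1 →
        (∀ D : Subgroup ↥L, Odd (Nat.card D) → D ≤ centralizer ({v} : Set ↥L) →
          centralizer ({v} : Set ↥L) ≤ normalizer (D : Set ↥L) → D = ⊥) ∧
        ∀ e : MulAut ↥L, Odd (orderOf e) → (∀ y, y * v = v * y → e y = y) → e = 1) := by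
  classical
  haveI : Fact (Nat.Prime 2) := ⟨Nat.prime_two⟩
  obtain ⟨hs, hnc⟩ := comp_simple A hL
  haveI := hs
  intro P
  have hab := A.ab.subgroup L
  rcases comp_typed A hL with h | h | h
  · obtain ⟨h4, hsq, hrot, hcent, haut⟩ := binary_facts h P
    refine ⟨hsq, h4, hrot, fun _ v hv hv1 => ⟨fun D hD hDC _ => eq_bot_iff.2 fun x hx => ?_,
      fun e he hfix => haut e he fun y hy => hfix y (hab P y hy v hv)⟩⟩
    have hxP : x ∈ P := (hcent v hv hv1).le (hDC hx)
    exact mem_bot.2 (GenDihedral.eq_one_of_sq_of_odd (hsq x hxP) (GenDihedral.orderOf_odd hD hx))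
  · obtain ⟨F, iF, iFt, hq, h5, ⟨f⟩⟩ := h
    have K : FourGW.Top F (⊤ : Subgroup ↥L) :=
      ⟨inferInstance, by rw [index_top]; exact odd_one, ⟨Subgroup.topEquiv.trans f⟩, hq⟩
    haveI hK : IsKleinFour ↥(P : Subgroup ↥L) := by
      have hQ := Cfsg.Lib.AbCentMax.psl_sylow_klein (FourGW.Top.odd_q K) (P.mapSurjective (f := f.toMonoidHom) f.surjective) (by
        rintro _ ⟨x, hx, rfl⟩ _ ⟨y, hy, rfl⟩
        rw [← map_mul, ← map_mul, hab P x hx y hy])
      let e := (P : Subgroup ↥L).equivMapOfInjective f.toMonoidHom f.injective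
      exact ⟨(Nat.card_congr e.toEquiv).trans hQ.card_four,
        (Monoid.exponent_eq_of_mulEquiv e).trans hQ.exponent_two⟩
    refine ⟨fun x hx => congrArg Subtype.val (GWFour.sq_of_klein (⟨x, hx⟩ : ↥(P : Subgroup ↥L))),
      hK.card_four.ge, rot_small K P, fun h4 => absurd hK.card_four h4⟩
  · obtain ⟨h1, h2, h3⟩ := jr_facts hnc hab h
    obtain ⟨h8, hsq, hrot⟩ := h1 P
    refine ⟨hsq, by rw [h8]; norm_num, hrot, fun _ v hv hv1 => ?_⟩
    have hv2 : orderOf v = 2 := orderOf_eq_prime (by rw [pow_two]; exact hsq v hv) hv1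
    refine ⟨fun D hD hDC hn => eq_bot_iff.2 ((le_centralizerPPrimeCore (p := 2) ?_ ?_ ?_).trans_eq (h2 v hv2)),
      fun e he => h3 e v hv2 he⟩
    · exact hDC
    · exact hn
    · exact Nat.coprime_two_right.2 hD

theorem mem_inf_sylow {x : X} (hx : x ∈ L) (hxT : x ∈ T) (P : Sylow 2 ↥L)
    (hP : (P : Subgroup ↥L) = (T : Subgroup X).subgroupOf L) : (⟨x, hx⟩ : L) ∈ P := by
  show (⟨x, hx⟩ : L) ∈ (P : Subgroup ↥L)
  rw [hP]; exact hxT

theorem comp_sq {x : X} (hx : x ∈ L) (hxT : x ∈ T) : x * x = 1 := by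
  obtain ⟨P, hP⟩ := sylow_comp A hL
  exact congrArg Subtype.val ((card_four_or A hL P).1 _ (mem_inf_sylow A hL hx hxT P hP))

theorem card_inf : 4 ≤ Nat.card ↥((T : Subgroup X) ⊓ L) := by
  obtain ⟨P, hP⟩ := sylow_comp A hL
  have h := (card_four_or A hL P).2.1
  rw [hP, ← inf_subgroupOf_right, Nat.card_congr (subgroupOfEquivOfLe inf_le_right).toEquiv] at h
  exact h

theorem le_normalizer_comp : (T : Subgroup X) ≤ normalizer (L : Set X) := by
  intro s hs
  by_contra hn
  have hne : L.map (MulAut.conj s).toMonoidHom ≠ L := fun e => hn (mem_normalizer_iff_map_conj_eq.2 e)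
  have hc := comp_commute hL (comp_conj hL s) hne.symm
  have hbot : (T : Subgroup X) ⊓ L = ⊥ := eq_bot_iff.2 fun x hx => by
    refine (comp_center A hL).le ⟨hx.2, mem_centralizer_iff.2 fun y hy => ?_⟩
    refine Components.commute_of_commutator_eq_bot hc hy ⟨x, hx.2, ?_⟩
    show s * x * s⁻¹ = x
    rw [A.ab T s hs x hx.1, mul_inv_cancel_right]
  have h4 := card_inf A hL
  rw [hbot, card_bot] at h4
  omega

/-- The Sylow subgroup splits along the component. -/
theorem exists_inner {s : X} (hs : s ∈ T) :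
    ∃ a, a ∈ T ∧ a ∈ L ∧ a⁻¹ * s ∈ centralizer (L : Set X) := by
  haveI : Fact (Nat.Prime 2) := ⟨Nat.prime_two⟩
  obtain ⟨P, hP⟩ := sylow_comp A hL
  obtain ⟨hsimp, hnc⟩ := comp_simple A hL
  haveI := hsimp
  have hn := le_normalizer_comp A hL hs
  set α : MulAut ↥L := GenDihedral.cj L s hn
  have hα : ∀ y : L, ((α y : L) : X) = s * y * s⁻¹ := fun y => rfl
  obtain ⟨j, hj⟩ := T.isPGroup' ⟨s, hs⟩
  have hj' : s ^ 2 ^ j = 1 := congrArg Subtype.val hj
  have hαn : ∀ (k : ℕ) (y : L), (((α ^ k) y : L) : X) = s ^ k * y * (s ^ k)⁻¹ := by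
    intro k
    induction k with
    | zero => simp
    | succ k ih => intro y; rw [pow_succ', MulAut.mul_apply, hα, ih, pow_succ']; group
  have ho : ∃ i : ℕ, orderOf α = 2 ^ i := by
    obtain ⟨i, -, hi⟩ := (Nat.dvd_prime_pow Nat.prime_two).1 (orderOf_dvd_of_pow_eq_one
      (show α ^ 2 ^ j = 1 from MulEquiv.ext fun y => Subtype.ext (by rw [hαn, hj']; simp)))
    exact ⟨i, hi⟩
  have hc : center ↥L = ⊥ := by
    refine (IsSimpleGroup.eq_bot_or_eq_top_of_normal (center ↥L) inferInstance).resolve_right fun e => hnc ?_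
    exact ⟨⟨fun x y => (mem_center_iff.1 (e ▸ mem_top y) x)⟩⟩
  have hO : Cfsg.pPrimeCore 2 ↥L = ⊥ := by
    haveI : (Cfsg.pPrimeCore 2 ↥L).Normal := normal_of_mem_sSup_normal fun _ h => h.1
    refine (IsSimpleGroup.eq_bot_or_eq_top_of_normal (Cfsg.pPrimeCore 2 ↥L) inferInstance).resolve_right fun e => ?_
    have h := coprime_card_pPrimeCore (G := ↥L) 2
    rw [e, card_top] at h
    exact (Nat.Prime.coprime_iff_not_dvd Nat.prime_two).1 h.symm (comp_dvd_card A.core hL)
  obtain ⟨g, hg⟩ := Cfsg.Agent.S4593.result hc hO P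
    ⟨⟨fun x y => Subtype.ext (A.ab.subgroup L P x x.2 y y.2)⟩⟩ α ho (fun y hy => Subtype.ext (by
      rw [hα]
      have hyT : (y : X) ∈ T := by rw [hP] at hy; exact hy
      rw [A.ab T s hs y hyT, mul_inv_cancel_right]))
  have hgy : ∀ y : L, s * (y : X) * s⁻¹ = (g : X) * y * (g : X)⁻¹ := fun y => by
    rw [← hα, hg]; rfl
  have hgc : (g : X)⁻¹ * s ∈ centralizer (L : Set X) := mem_centralizer_iff.2 fun y hy => by
    calc y * ((g : X)⁻¹ * s) = (g : X)⁻¹ * ((g : X) * y * (g : X)⁻¹) * s := by group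
      _ = (g : X)⁻¹ * s * y := by rw [← hgy ⟨y, hy⟩]; group
  -- `g` is a 2-element centralising `P`
  have hg2 : IsPGroup 2 (zpowers g) := by
    obtain ⟨i, hi⟩ := ho
    have hgi : g ^ 2 ^ i = 1 := by
      have hcj : ∀ y, g ^ 2 ^ i * y * (g ^ 2 ^ i)⁻¹ = y := by
        intro y
        have h1 : α = MulAut.conj g := MulEquiv.ext fun x => hg x
        have h2 := pow_orderOf_eq_one α
        rw [hi, h1, ← map_pow] at h2
        exact MulEquiv.ext_iff.1 h2 y
      exact mem_bot.1 (hc ▸ mem_center_iff.2 fun y => (mul_inv_eq_iff_eq_mul.1 (hcj y)).symm)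
    obtain ⟨k, -, hk⟩ := (Nat.dvd_prime_pow Nat.prime_two).1 (orderOf_dvd_of_pow_eq_one hgi)
    exact IsPGroup.of_card (n := k) (by rw [Nat.card_zpowers, hk])
  have hgP : g ∈ P := by
    have hle : zpowers g ≤ normalizer ((P : Subgroup ↥L) : Set ↥L) :=
      le_trans (zpowers_le.2 (mem_centralizer_iff.2 fun y hy => Subtype.ext (by
        have hy' : y ∈ (T : Subgroup X).subgroupOf L := hP ▸ hy
        have h := hgy y
        rw [A.ab T s hs y hy', mul_inv_cancel_right] at h
        exact (eq_mul_inv_iff_mul_eq.1 h)))) (centralizer_le_normalizer _)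
    have := P.is_maximal' (hg2.to_sup_of_normal_right' P.isPGroup' hle) le_sup_right
    exact this.le (mem_sup_left (mem_zpowers g))
  refine ⟨g, ?_, g.2, hgc⟩
  have : g ∈ (T : Subgroup X).subgroupOf L := hP ▸ hgP
  exact this

/-- A rotation in `L` normalising the Sylow subgroup. -/
theorem rot_in : RotIn (T : Subgroup X) ((T : Subgroup X) ⊓ L) L := by
  haveI : Fact (Nat.Prime 2) := ⟨Nat.prime_two⟩
  obtain ⟨P, hP⟩ := sylow_comp A hL
  obtain ⟨r, hr, h1, h2⟩ := (card_four_or A hL P).2.2.1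
  have hcard : Nat.card ↥(P : Subgroup ↥L) = Nat.card ↥((T : Subgroup X) ⊓ L) := by
    rw [hP, ← inf_subgroupOf_right, Nat.card_congr (subgroupOfEquivOfLe inf_le_right).toEquiv]
  refine ⟨r, r.2, ?_, fun k hk x hx => ?_, fun k hk x hx he => ?_⟩
  · refine ZStarApps.mem_normalizer_of_maps fun s hs => ?_
    obtain ⟨a, haT, haL, hac⟩ := exists_inner A hL hs
    have e : (r : X) * s * (r : X)⁻¹ = ((r : X) * a * (r : X)⁻¹) * (a⁻¹ * s) := by
      calc (r : X) * s * (r : X)⁻¹ = (r : X) * a * ((a⁻¹ * s) * (r : X)⁻¹) := by group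
        _ = (r : X) * a * ((r : X)⁻¹ * (a⁻¹ * s)) := by
          rw [mem_centralizer_iff.1 hac _ (inv_mem r.2)]
        _ = _ := by group
    rw [e]
    refine mul_mem ?_ (mul_mem (inv_mem haT) hs)
    have := (mem_normalizer_iff.1 hr ⟨a, haL⟩).1 (mem_inf_sylow A hL haL haT P hP)
    rw [hP] at this
    exact this
  · have := h1 k (hcard ▸ hk) _ (mem_inf_sylow A hL hx.2 hx.1 P hP)
    have := congrArg Subtype.val this
    simpa using this
  · have := h2 k (hcard ▸ hk) _ (mem_inf_sylow A hL hx.2 hx.1 P hP) (Subtype.ext (by simpa using he))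
    exact congrArg Subtype.val this

/-- The centralisers of the normaliser in `L` are those of `L`. -/
theorem centralizes_of_norm {s : X} (hs : s ∈ T)
    (h : ∀ l ∈ L, l ∈ normalizer ((T : Subgroup X) : Set X) → l * s = s * l) : s ∈ centralizer (L : Set X) := by
  haveI : Fact (Nat.Prime 2) := ⟨Nat.prime_two⟩
  obtain ⟨a, haT, haL, hac⟩ := exists_inner A hL hs
  suffices a = 1 by rwa [this, inv_one, one_mul] at hac
  obtain ⟨r, hrL, hrN, -, h2⟩ := rot_in A hL
  have hrc : r * (a⁻¹ * s) = a⁻¹ * s * r := mem_centralizer_iff.1 hac r hrL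
  have hra : r * a⁻¹ * r⁻¹ = a⁻¹ := by
    calc r * a⁻¹ * r⁻¹ = r * (a⁻¹ * s) * (r * s)⁻¹ := by group
      _ = a⁻¹ * s * r * (s * r)⁻¹ := by rw [hrc, h r hrL hrN]
      _ = a⁻¹ := by group
  have h4 := card_inf A hL
  have := h2 1 (by rw [Nat.dvd_one]; omega) a ⟨haT, haL⟩ (by
    rw [pow_one]
    have := congrArg (·⁻¹) hra
    simpa [mul_assoc] using this)
  exact this

/-- The complement: the part of the Sylow subgroup centralising `L`. -/
theorem comp_split : ((T : Subgroup X) ⊓ centralizer (L : Set X)) ⊓ ((T : Subgroup X) ⊓ L) = ⊥ ∧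
    ((T : Subgroup X) ⊓ centralizer (L : Set X)) ⊔ ((T : Subgroup X) ⊓ L) = T := by
  refine ⟨eq_bot_iff.2 fun x hx => (comp_center A hL).le ⟨hx.2.2, hx.1.2⟩,
    le_antisymm (sup_le inf_le_left inf_le_left) fun s hs => ?_⟩
  obtain ⟨a, haT, haL, hac⟩ := exists_inner A hL hs
  have h := mul_mem (mem_sup_right (S := (T : Subgroup X) ⊓ centralizer (L : Set X))
      (show a ∈ (T : Subgroup X) ⊓ L from ⟨haT, haL⟩))
    (mem_sup_left (T := (T : Subgroup X) ⊓ L)
      (show a⁻¹ * s ∈ (T : Subgroup X) ⊓ centralizer (L : Set X) from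
        ⟨(T : Subgroup X).mul_mem ((T : Subgroup X).inv_mem haT) hs, hac⟩))
  rwa [mul_inv_cancel_left] at h

end Cfsg.Lib.Walter

namespace Cfsg.Lib.Walter

open Subgroup Cfsg.Lib.Components

universe u

variable {X : Type u} [Group X] [Finite X] {T : Sylow 2 X} (A : CoreFree T)
include A

theorem pCore_le : Cfsg.pCore 2 X ≤ (T : Subgroup X) :=
  Cfsg.Lib.Coprime.pCore_le_sylow 2 T

/-- The generalised Fitting subgroup centraliser argument: what centralises `O₂` and all components. -/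
theorem mem_of_centralizes {x : X} (h2 : x ∈ centralizer (Cfsg.pCore 2 X : Set X))
    (hc : ∀ L : Subgroup X, Cfsg.IsComponent L → x ∈ centralizer (L : Set X)) :
    x ∈ Cfsg.layer X ⊔ Cfsg.pCore 2 X ∧ ∀ y ∈ Cfsg.layer X ⊔ Cfsg.pCore 2 X, y * x = x * y := by
  haveI : Fact (Nat.Prime 2) := ⟨Nat.prime_two⟩
  have hle : Cfsg.layer X ⊔ Cfsg.pCore 2 X ≤ centralizer ({x} : Set X) :=
    sup_le (sSup_le fun L hL y hy => mem_centralizer_singleton_iff.2 (mem_centralizer_iff.1 (hc L hL) y hy))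
      fun y hy => mem_centralizer_singleton_iff.2 (mem_centralizer_iff.1 h2 y hy)
  have hF : Cfsg.generalizedFittingSubgroup X = Cfsg.layer X ⊔ Cfsg.pCore 2 X := by
    rw [Cfsg.generalizedFittingSubgroup, fitting_eq_pCore A.core]
  refine ⟨hF ▸ centralizer_genFitting_le ?_, fun y hy => mem_centralizer_singleton_iff.1 (hle hy)⟩
  rw [hF]
  exact mem_centralizer_iff.2 fun y hy => mem_centralizer_singleton_iff.1 (hle hy)

/-- The Sylow subgroup lies in the generalised Fitting subgroup. -/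
theorem sylow_le_genFit : (T : Subgroup X) ≤ Cfsg.layer X ⊔ Cfsg.pCore 2 X := by
  classical
  intro s hs
  obtain ⟨F, hF, -⟩ := layer_eq_finset (G := X)
  suffices h : ∀ D : Finset (Subgroup X), (∀ L ∈ D, Cfsg.IsComponent L) → ∃ e ∈ (T : Subgroup X) ⊓ Cfsg.layer X,
      ∀ L ∈ D, e⁻¹ * s ∈ centralizer (L : Set X) by
    obtain ⟨e, ⟨heT, hel⟩, hec⟩ := h F fun L hL => (hF L).1 hL
    have := (mem_of_centralizes A (x := e⁻¹ * s) (mem_centralizer_iff.2 fun y hy =>
      A.ab T y (pCore_le A hy) _ (mul_mem (inv_mem heT) hs)) fun L hL => hec L ((hF L).2 hL)).1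
    have := mul_mem (mem_sup_left (T := Cfsg.pCore 2 X) hel) this
    rwa [mul_inv_cancel_left] at this
  intro D
  induction D using Finset.induction_on with
  | empty => exact fun _ => ⟨1, one_mem _, by simp⟩
  | @insert L₀ D hL₀ ih =>
    intro hD
    have h₀ := hD L₀ (Finset.mem_insert_self _ _)
    obtain ⟨e, he, hec⟩ := ih fun L hL => hD L (Finset.mem_insert_of_mem hL)
    obtain ⟨a, haT, haL, hac⟩ := exists_inner A h₀ (mul_mem (inv_mem he.1) hs)
    refine ⟨e * a, mul_mem he ⟨haT, comp_le_layer h₀ haL⟩, fun L hL => ?_⟩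
    rw [show (e * a)⁻¹ * s = a⁻¹ * (e⁻¹ * s) by group]
    rcases Finset.mem_insert.1 hL with rfl | hL'
    · exact hac
    · refine mul_mem (inv_mem ?_) (hec L hL')
      exact commutator_eq_bot_iff_le_centralizer.1 (comp_commute h₀ (hD L hL) fun e => hL₀ (e ▸ hL')) haL

theorem le_layer_sup_normalizer : (⊤ : Subgroup X) ≤ Cfsg.layer X ⊔ normalizer ((T : Subgroup X) : Set X) := by
  haveI : Fact (Nat.Prime 2) := ⟨Nat.prime_two⟩
  haveI : (Cfsg.layer X).Normal := inferInstance
  haveI : (Cfsg.pCore 2 X).Normal := (pCore_normal_and_isPGroup 2).1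
  set N := Cfsg.layer X ⊔ Cfsg.pCore 2 X
  have hTN := sylow_le_genFit A
  have hF := Sylow.normalizer_sup_eq_top (T.subtype hTN)
  rw [show ((T.subtype hTN : Sylow 2 ↥N) : Subgroup ↥N).map N.subtype = (T : Subgroup X) from
    map_subgroupOf_eq_of_le hTN] at hF
  rw [← hF]
  exact sup_le le_sup_right (sup_le le_sup_left ((pCore_le A).trans (le_normalizer.trans le_sup_right)))

/-- Odd subgroups normalised by the Sylow subgroup and centralising all components are trivial. -/
theorem faith_core {D : Subgroup X} (hD : Odd (Nat.card D)) (hT : (T : Subgroup X) ≤ normalizer (D : Set X))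
    {x : X} (hx : x ∈ D) (hc : ∀ L : Subgroup X, Cfsg.IsComponent L → x ∈ centralizer (L : Set X)) : x = 1 := by
  haveI : Fact (Nat.Prime 2) := ⟨Nat.prime_two⟩
  haveI : (Cfsg.pCore 2 X).Normal := (pCore_normal_and_isPGroup 2).1
  have hx2 : x ∈ centralizer (Cfsg.pCore 2 X : Set X) := by
    refine mem_centralizer_iff.2 fun y hy => ?_
    have h1 : y * x * y⁻¹ * x⁻¹ ∈ D :=
      mul_mem ((mem_normalizer_iff.1 (hT (pCore_le A hy)) x).1 hx) (inv_mem hx)
    have h2 : y * x * y⁻¹ * x⁻¹ ∈ Cfsg.pCore 2 X := by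
      rw [show y * x * y⁻¹ * x⁻¹ = y * (x * y⁻¹ * x⁻¹) by group]
      exact mul_mem hy ((inferInstance : (Cfsg.pCore 2 X).Normal).conj_mem _ (inv_mem hy) x)
    obtain ⟨j, hj⟩ := isPGroup_pCore 2 ⟨_, h2⟩
    have e := orderOf_eq_one_iff.1 (Nat.eq_one_of_dvd_coprimes
      ((Nat.coprime_two_left.2 (GenDihedral.orderOf_odd hD h1)).pow_left j)
      (orderOf_dvd_of_pow_eq_one (congrArg Subtype.val hj)) dvd_rfl)
    exact mul_inv_eq_iff_eq_mul.1 (mul_inv_eq_one.1 e)
  obtain ⟨hxF, hcomm⟩ := mem_of_centralizes A hx2 hc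
  haveI : (Cfsg.layer X).Normal := inferInstance
  obtain ⟨e, he, f, hf, hef⟩ := mem_sup_of_normal_right.1 hxF
  have hef' : e * f = x := hef
  have hec : e ∈ centralizer (Cfsg.layer X : Set X) := mem_centralizer_iff.2 fun y hy => by
    have h1 : y * (e * f) = e * f * y := hef'.symm ▸ hcomm y (mem_sup_left hy)
    have h2 : f * y = y * f := (Components.commute_of_commutator_eq_bot (fitting_eq_pCore A.core ▸
      layer_commute_fitting (G := X)) hy hf).symm
    calc y * e = y * (e * f) * f⁻¹ := by group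
      _ = e * (f * y) * f⁻¹ := by rw [h1]; group
      _ = e * y := by rw [h2]; group
  have he2 : e ∈ Cfsg.pCore 2 X := by
    rw [← fitting_eq_pCore A.core]
    have h : e ∈ Cfsg.layer X ⊓ centralizer (Cfsg.layer X : Set X) := mem_inf.2 ⟨he, hec⟩
    rw [layer_inf_centralizer_eq_fitting] at h
    exact h.1
  obtain ⟨j, hj⟩ := isPGroup_pCore 2 ⟨x, hef' ▸ mul_mem he2 hf⟩
  exact orderOf_eq_one_iff.1 (Nat.eq_one_of_dvd_coprimes
    ((Nat.coprime_two_left.2 (GenDihedral.orderOf_odd hD hx)).pow_left j)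
    (orderOf_dvd_of_pow_eq_one (congrArg Subtype.val hj)) dvd_rfl)

/-- Without components the Sylow subgroup is normal. -/
theorem solvable_of_no_comp (h : ∀ L : Subgroup X, ¬ Cfsg.IsComponent L) : Group.IsSolvable X := by
  haveI : Fact (Nat.Prime 2) := ⟨Nat.prime_two⟩
  have hl : Cfsg.layer X = ⊥ := eq_bot_iff.2 (sSup_le fun L hL => absurd hL (h L))
  have hTP : (T : Subgroup X) = Cfsg.pCore 2 X :=
    le_antisymm (by simpa [hl] using sylow_le_genFit A) (pCore_le A)
  exact Cfsg.Lib.BenderSE.Ring2.solvable_of_normal_sylow T (hTP ▸ (pCore_normal_and_isPGroup 2).1)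

variable {L : Subgroup X}

/-- Balance: `O(C(b))` centralises `L` unless `L` is small and moved by `b`. -/
theorem core_centralizes (hL : Cfsg.IsComponent L) {b : X} (hb : b ∈ T) (hb2 : orderOf b = 2)
    (h : b ∈ centralizer (L : Set X) ∨ Nat.card ↥((T : Subgroup X) ⊓ L) ≠ 4) :
    Cfsg.centralizerPPrimeCore 2 b ≤ centralizer (L : Set X) := by
  haveI : Fact (Nat.Prime 2) := ⟨Nat.prime_two⟩
  have hbp : IsPGroup 2 (zpowers b) := IsPGroup.of_card (n := 1) (by rw [Nat.card_zpowers, hb2, pow_one])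
  have hcomm : ∀ {C : Subgroup X}, ⁅L, C⁆ = ⊥ → C ≤ centralizer (L : Set X) := fun {C} hC =>
    commutator_eq_bot_iff_le_centralizer.1 (by rwa [commutator_comm])
  by_cases hbc : b ∈ centralizer (L : Set X)
  · exact hcomm (core_commute_of_centralized A.core hbp hL fun y hy =>
      mem_centralizer_singleton_iff.2 (mem_centralizer_iff.1 hbc y hy))
  have h4 := h.resolve_left hbc
  set R := Cfsg.centralizerPPrimeCore 2 b
  have hRn : R ≤ normalizer (L : Set X) := fun x hx =>
    mem_compKernel.1 (centralizerPPrimeCore_le_compKernel A.core hbp hx) L hL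
  have hRb : R ≤ centralizer ({b} : Set X) := centralizerPPrimeCore_le_centralizer b
  have hRo : Odd (Nat.card R) := Nat.coprime_two_right.1 (centralizerPPrimeCore_card_coprime b)
  obtain ⟨a, haT, haL, hac⟩ := exists_inner A hL hb
  have ha1 : a ≠ 1 := fun e => hbc (by rwa [e, inv_one, one_mul] at hac)
  obtain ⟨P, hP⟩ := sylow_comp A hL
  have hcard : Nat.card ↥(P : Subgroup ↥L) ≠ 4 := by
    rw [hP, ← inf_subgroupOf_right, Nat.card_congr (subgroupOfEquivOfLe inf_le_right).toEquiv]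
    exact h4
  obtain ⟨hD, hfix⟩ := (card_four_or A hL P).2.2.2 hcard ⟨a, haL⟩ (mem_inf_sylow A hL haL haT P hP)
    fun e => ha1 (congrArg Subtype.val e)
  have hab : ∀ y ∈ L, y * a = a * y ↔ y * b = b * y := by
    intro y hy
    have hc : Commute y (a⁻¹ * b) := mem_centralizer_iff.1 hac y hy
    refine ⟨fun h1 => ?_, fun h1 => ?_⟩
    · have := ((show Commute y a from h1).mul_right hc).eq
      rwa [mul_inv_cancel_left] at this
    · have h2 : Commute y (b * (a⁻¹ * b)⁻¹) := (show Commute y b from h1).mul_right hc.inv_right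
      rwa [show b * (a⁻¹ * b)⁻¹ = a by group] at h2
  -- commutators of `R` and `C_L(a)` are trivial
  have hbot : (R.subgroupOf L) ⊓ centralizer ({(⟨a, haL⟩ : L)} : Set ↥L) = ⊥ := by
    refine hD _ ?_ inf_le_right ?_
    · refine hRo.of_dvd_nat ((card_dvd_of_le inf_le_left).trans ?_)
      rw [← inf_subgroupOf_right, Nat.card_congr (subgroupOfEquivOfLe inf_le_right).toEquiv]
      exact card_dvd_of_le inf_le_left
    · intro c hc
      refine ZStarApps.mem_normalizer_of_maps fun y hy => ⟨?_, ?_⟩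
      · have hcb : (c : X) * b = b * c :=
          (hab c c.2).1 (congrArg Subtype.val (mem_centralizer_singleton_iff.1 hc))
        exact (mem_normalizer_iff.1 (centralizer_le_normalizer_centralizerPPrimeCore b
          (mem_centralizer_singleton_iff.2 hcb)) y).1 hy.1
      · exact Subgroup.mul_mem _ (Subgroup.mul_mem _ hc hy.2) (Subgroup.inv_mem _ hc)
  intro x hx
  have hxn := hRn hx
  set e : MulAut ↥L := GenDihedral.cj L x hxn
  have he : ∀ y : L, ((e y : L) : X) = x * y * x⁻¹ := fun y => rfl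
  have hen : ∀ (k : ℕ) (y : L), (((e ^ k) y : L) : X) = x ^ k * y * (x ^ k)⁻¹ := by
    intro k
    induction k with
    | zero => simp
    | succ k ih => intro y; rw [pow_succ', MulAut.mul_apply, he, ih, pow_succ']; group
  have heo : Odd (orderOf e) := (GenDihedral.orderOf_odd hRo hx).of_dvd_nat (orderOf_dvd_of_pow_eq_one
    (MulEquiv.ext fun y => Subtype.ext (by rw [hen, pow_orderOf_eq_one]; simp)))
  have hone : e = 1 := hfix e heo fun y hy => by
    have hyb : (y : X) * b = b * y := (hab y y.2).1 (congrArg Subtype.val hy)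
    have h1 : x * y * x⁻¹ * (y : X)⁻¹ ∈ R := by
      rw [show x * y * x⁻¹ * (y : X)⁻¹ = x * ((y : X) * x⁻¹ * (y : X)⁻¹) by group]
      exact mul_mem hx ((mem_normalizer_iff.1 (centralizer_le_normalizer_centralizerPPrimeCore b
        (mem_centralizer_singleton_iff.2 hyb)) _).1 (inv_mem hx))
    have h2 : x * y * x⁻¹ * (y : X)⁻¹ ∈ L :=
      mul_mem ((mem_normalizer_iff.1 hxn y).1 y.2) (inv_mem y.2)
    have h3 : (⟨_, h2⟩ : L) = 1 := mem_bot.1 (hbot ▸ mem_inf.2 ⟨h1, mem_centralizer_singleton_iff.2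
      (Subtype.ext ((hab _ h2).2 (mem_centralizer_singleton_iff.1 (hRb h1))))⟩)
    exact Subtype.ext ((he y).trans (mul_inv_eq_one.1 (congrArg Subtype.val h3)))
  refine mem_centralizer_iff.2 fun y hy => ?_
  have := congrArg Subtype.val (MulEquiv.ext_iff.1 hone ⟨y, hy⟩)
  rw [he] at this
  exact (mul_inv_eq_iff_eq_mul.1 this).symm

end Cfsg.Lib.Walter
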