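import Cfsg.Agent.Walter.Structure

/-!
The centraliser of an involution of the Sylow subgroup modulo its core, and the dictionary between
2-components upstairs and components downstairs.
-/

set_option autoImplicit false
set_option linter.unusedSectionVars false
set_option linter.style.haveILetI false

namespace Cfsg.Lib.Walter

open Subgroup Cfsg.Lib.Components

universe u

variable {G : Type u} [Group G] [Finite G]

/-- `C(t)/O(C(t))`. -/
abbrev Qt (t : G) : Type u :=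
  ↥(centralizer ({t} : Set G)) ⧸ Cfsg.pPrimeCore 2 ↥(centralizer ({t} : Set G))

/-- The projection onto `C(t)/O(C(t))`. -/
abbrev qm (t : G) : ↥(centralizer ({t} : Set G)) →* Qt t :=
  QuotientGroup.mk' (Cfsg.pPrimeCore 2 ↥(centralizer ({t} : Set G)))

/-- The image of a subgroup in `C(t)/O(C(t))`. -/
abbrev bar (t : G) (L : Subgroup G) : Subgroup (Qt t) := (L.subgroupOf (centralizer ({t} : Set G))).map (qm t)

theorem mem_Oc {t y : G} :
    y ∈ Oc t ↔ ∃ h : y ∈ centralizer ({t} : Set G), qm t ⟨y, h⟩ = 1 := by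
  constructor
  · rintro ⟨z, hz, rfl⟩
    exact ⟨z.2, (QuotientGroup.eq_one_iff _).2 hz⟩
  · rintro ⟨h, he⟩
    exact ⟨⟨y, h⟩, (QuotientGroup.eq_one_iff _).1 he, rfl⟩

theorem odd_ker_qm (t : G) : (Nat.card (qm t).ker).Coprime 2 := by
  rw [QuotientGroup.ker_mk']; exact coprime_card_pPrimeCore 2

/-- An involution of the Sylow subgroup in the minimal configuration. -/
structure Loc (S : Sylow 2 G) (t : G) : Prop where
  min : Min G
  mem : t ∈ S
  two : orderOf t = 2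

variable {S : Sylow 2 G} {t : G} (h : Loc S t)
include h

namespace Loc

theorem le : (S : Subgroup G) ≤ centralizer ({t} : Set G) := fun s hs =>
  mem_centralizer_singleton_iff.2 (h.min.ab S s hs t h.mem)

/-- The Sylow subgroup of `C(t)/O(C(t))`. -/
noncomputable def sylow : Sylow 2 (Qt t) :=
  haveI : Fact (Nat.Prime 2) := ⟨Nat.prime_two⟩
  (S.subtype h.le).mapSurjective (QuotientGroup.mk'_surjective _)

theorem mem_sylow {y : Qt t} : y ∈ h.sylow ↔ ∃ s, ∃ hs : s ∈ S, qm t ⟨s, h.le hs⟩ = y := by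
  constructor
  · rintro ⟨x, hx, rfl⟩
    exact ⟨x, hx, rfl⟩
  · rintro ⟨s, hs, rfl⟩
    exact ⟨⟨s, h.le hs⟩, hs, rfl⟩

theorem coe_sylow : (h.sylow : Subgroup (Qt t)) = bar t (S : Subgroup G) := rfl

theorem eq_one {s : G} (hs : s ∈ S) (he : qm t ⟨s, h.le hs⟩ = 1) : s = 1 := by
  have hm : (⟨s, h.le hs⟩ : ↥(centralizer ({t} : Set G))) ∈ (qm t).ker := MonoidHom.mem_ker.2 he
  obtain ⟨j, hj⟩ := S.isPGroup' ⟨s, hs⟩
  have hj' : s ^ 2 ^ j = 1 := congrArg Subtype.val hj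
  refine orderOf_eq_one_iff.1 (Nat.eq_one_of_dvd_coprimes ((odd_ker_qm t).symm.pow_left j)
    (orderOf_dvd_of_pow_eq_one hj') ?_)
  rw [← Subgroup.orderOf_mk s (h.le hs)]
  exact Subgroup.orderOf_dvd_natCard _ hm

theorem inj {s s' : G} (hs : s ∈ S) (hs' : s' ∈ S) (he : qm t ⟨s, h.le hs⟩ = qm t ⟨s', h.le hs'⟩) : s = s' := by
  have h1 : qm t ⟨s * s'⁻¹, h.le (mul_mem hs (inv_mem hs'))⟩ = 1 := by
    rw [← mul_inv_eq_one] at he
    exact he
  exact mul_inv_eq_one.1 (h.eq_one (mul_mem hs (inv_mem hs')) h1)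

theorem card_lt : Nat.card ↥(centralizer ({t} : Set G)) < Nat.card G := by
  haveI := h.min.simple
  refine lt_of_le_of_ne (Subgroup.card_le_card_group _) fun e => ?_
  have htop := Subgroup.eq_top_of_card_eq _ e
  rcases IsSimpleGroup.eq_bot_or_eq_top_of_normal (center G) inferInstance with e' | e'
  · have h1 : t = 1 := mem_bot.1 (e' ▸ mem_center_iff.2 fun g =>
      mem_centralizer_singleton_iff.1 (htop ▸ mem_top g))
    have := h.two
    rw [h1, orderOf_one] at this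
    omega
  · exact h.min.nab ⟨⟨fun a b => (mem_center_iff.1 (e' ▸ mem_top b) a)⟩⟩

theorem coreFree : CoreFree h.sylow := by
  haveI : Fact (Nat.Prime 2) := ⟨Nat.prime_two⟩
  refine ⟨(h.min.ab.subgroup _).of_surjective (QuotientGroup.mk'_surjective _), pPrimeCore_quotient_eq_bot,
    fun L hs hn => ?_, h.min.four⟩
  haveI := hs
  have hab : AbTwo ↥L := ((h.min.ab.subgroup _).of_surjective (QuotientGroup.mk'_surjective _)).subgroup L
  refine h.min.below ↥L hn hab (lt_of_le_of_lt ((Subgroup.card_le_card_group L).trans ?_) h.card_lt)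
  exact Nat.card_le_card_of_surjective _ (QuotientGroup.mk'_surjective _)

variable {L : Subgroup G}

theorem comp (hL : IsComp t L) : Cfsg.IsComponent (bar t L) := hL.2.2.1

theorem exists_comp {K : Subgroup (Qt t)} (hK : Cfsg.IsComponent K) : ∃ L, IsComp t L ∧ bar t L = K := by
  haveI : Fact (Nat.Prime 2) := ⟨Nat.prime_two⟩
  obtain ⟨L', hL', hLK⟩ := exists_pcomp hK
  have he : (L'.map (centralizer ({t} : Set G)).subtype).subgroupOf (centralizer ({t} : Set G)) = L' :=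
    comap_map_eq_self_of_injective (centralizer ({t} : Set G)).subtype_injective L'
  refine ⟨L'.map (centralizer ({t} : Set G)).subtype, ⟨map_subtype_le _, by rw [he]; exact hL'⟩, ?_⟩
  show ((L'.map (centralizer ({t} : Set G)).subtype).subgroupOf (centralizer ({t} : Set G))).map (qm t) = K
  rw [he, hLK]

theorem bar_inj {L L' : Subgroup G} (hL : IsComp t L) (hL' : IsComp t L') (he : bar t L = bar t L') : L = L' := by
  haveI : Fact (Nat.Prime 2) := ⟨Nat.prime_two⟩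
  have := congrArg (Subgroup.map (centralizer ({t} : Set G)).subtype) (pcomp_eq_of_image_eq hL.2 hL'.2 he)
  rwa [map_subgroupOf_eq_of_le hL.1, map_subgroupOf_eq_of_le hL'.1] at this

theorem le_norm (hL : IsComp t L) : (S : Subgroup G) ≤ normalizer (L : Set G) := by
  haveI : Fact (Nat.Prime 2) := ⟨Nat.prime_two⟩
  intro s hs
  have hm := pcomp_mem_normalizer hL.2 (g := ⟨s, h.le hs⟩)
    (le_normalizer_comp h.coreFree (h.comp hL) (h.mem_sylow.2 ⟨s, hs, rfl⟩))
  refine ZStarApps.mem_normalizer_of_maps fun y hy => ?_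
  exact (mem_normalizer_iff.1 hm ⟨y, hL.1 hy⟩).1 hy

theorem mem_of_bar (hL : IsComp t L) {s : G} (hs : s ∈ S) (he : qm t ⟨s, h.le hs⟩ ∈ bar t L) : s ∈ L := by
  haveI : Fact (Nat.Prime 2) := ⟨Nat.prime_two⟩
  set C := centralizer ({t} : Set G)
  set L' := L.subgroupOf C
  have hm : (⟨s, h.le hs⟩ : C) ∈ L' ⊔ Cfsg.pPrimeCore 2 ↥C := by
    rw [← comap_map_q]; exact he
  set M := L' ⊔ Cfsg.pPrimeCore 2 ↥C with hM
  have hn : M ≤ normalizer (L' : Set ↥C) := sup_le le_normalizer (pPrimeCore_le_normalizer_pcomp hL.2)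
  haveI : (L'.subgroupOf M).Normal := normal_subgroupOf_of_le_normalizer hn
  have hp : (⟨⟨s, h.le hs⟩, hm⟩ : M) ^ L'.relIndex M ∈ L'.subgroupOf M := pow_index_mem _ _
  have hp' : s ^ L'.relIndex M ∈ L := by simpa [L', mem_subgroupOf] using hp
  have hodd : (L'.relIndex M).Coprime 2 := by
    haveI : (Cfsg.pPrimeCore 2 ↥C).Normal := normal_of_mem_sSup_normal fun _ h => h.1
    refine (coprime_card_pPrimeCore (G := ↥C) 2).coprime_dvd_left ?_
    have h1 := card_sup_dvd_mul (Cfsg.pPrimeCore 2 ↥C) L'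
    rw [sup_comm, ← hM, mul_comm] at h1
    rw [← Subgroup.relIndex_bot_left M, ← relIndex_mul_relIndex ⊥ L' M bot_le le_sup_left, relIndex_bot_left] at h1
    exact Nat.dvd_of_mul_dvd_mul_left Nat.card_pos h1
  obtain ⟨j, hj⟩ := S.isPGroup' ⟨s, hs⟩
  have hj' : s ^ 2 ^ j = 1 := congrArg Subtype.val hj
  obtain ⟨k, hk⟩ := exists_pow_eq_self_of_coprime (x := s) (n := L'.relIndex M)
    ((hodd.pow_right j).coprime_dvd_right (orderOf_dvd_of_pow_eq_one hj'))
  exact hk ▸ pow_mem hp' k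

theorem card_inf (hL : IsComp t L) :
    Nat.card ↥((S : Subgroup G) ⊓ L) = Nat.card ↥((h.sylow : Subgroup (Qt t)) ⊓ bar t L) := by
  let f : ↥((S : Subgroup G) ⊓ L) → ↥((h.sylow : Subgroup (Qt t)) ⊓ bar t L) := fun x =>
    ⟨qm t ⟨x, h.le x.2.1⟩, ⟨h.mem_sylow.2 ⟨x, x.2.1, rfl⟩, mem_map_of_mem _ x.2.2⟩⟩
  refine Nat.card_eq_of_bijective f ⟨fun x y e => Subtype.ext (h.inj x.2.1 y.2.1 (congrArg Subtype.val e)), ?_⟩
  rintro ⟨y, hy, hyL⟩
  obtain ⟨s, hs, rfl⟩ := h.mem_sylow.1 hy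
  exact ⟨⟨s, hs, h.mem_of_bar hL hs hyL⟩, rfl⟩

theorem triv_iff (hL : IsComp t L) {x : G} (hx : x ∈ centralizer ({t} : Set G)) :
    Triv t L x ↔ qm t ⟨x, hx⟩ ∈ centralizer (bar t L : Set (Qt t)) := by
  constructor
  · intro hT
    refine mem_centralizer_iff.2 ?_
    rintro _ ⟨⟨l, hlC⟩, hl, rfl⟩
    obtain ⟨_, he⟩ := mem_Oc.1 (hT l hl)
    have e : qm t (⟨x, hx⟩ * ⟨l, hlC⟩ * ⟨x, hx⟩⁻¹ * ⟨l, hlC⟩⁻¹) = 1 := he
    rw [map_mul, map_mul, map_mul, map_inv, map_inv, mul_inv_eq_one, mul_inv_eq_iff_eq_mul] at e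
    exact e.symm
  · intro hc l hl
    refine mem_Oc.2 ⟨mul_mem (mul_mem (mul_mem hx (hL.1 hl)) (inv_mem hx)) (inv_mem (hL.1 hl)), ?_⟩
    show qm t (⟨x, hx⟩ * ⟨l, hL.1 hl⟩ * ⟨x, hx⟩⁻¹ * ⟨l, hL.1 hl⟩⁻¹) = 1
    have e := mem_centralizer_iff.1 hc (qm t ⟨l, hL.1 hl⟩) (mem_map_of_mem _ hl)
    rw [map_mul, map_mul, map_mul, map_inv, map_inv, mul_inv_eq_one, mul_inv_eq_iff_eq_mul, e]

/-- Elements of `bar L` normalising the Sylow subgroup lift into `L ∩ N(S)`. -/
theorem lift_norm (hL : IsComp t L) {y : Qt t} (hy : y ∈ bar t L)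
    (hyn : y ∈ normalizer ((h.sylow : Subgroup (Qt t)) : Set (Qt t))) :
    ∃ l, ∃ hl : l ∈ L, l ∈ normalizer ((S : Subgroup G) : Set G) ∧ qm t ⟨l, hL.1 hl⟩ = y := by
  haveI : Fact (Nat.Prime 2) := ⟨Nat.prime_two⟩
  set C := centralizer ({t} : Set G)
  set S' := (S : Subgroup G).subgroupOf C
  set L' := L.subgroupOf C
  set H := L' ⊔ S' with hH
  let f := (qm t).subgroupMap H
  have hker : (Nat.card f.ker).Coprime 2 := by
    refine (odd_ker_qm t).coprime_dvd_left ?_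
    rw [← Nat.card_congr ((f.ker).equivMapOfInjective H.subtype H.subtype_injective).symm.toEquiv]
    refine card_dvd_of_le ?_
    rintro _ ⟨x, hx, rfl⟩
    exact MonoidHom.mem_ker.2 (congrArg Subtype.val (MonoidHom.mem_ker.1 hx))
  have hP : IsPGroup 2 ↥(S'.subgroupOf H) :=
    (S.isPGroup'.comap_of_injective C.subtype C.subtype_injective).comap_of_injective H.subtype H.subtype_injective
  have hyH : y ∈ H.map (qm t) := map_mono le_sup_left hy
  have himg : ∀ z : ↥(H.map (qm t)), z ∈ (S'.subgroupOf H).map f ↔ (z : Qt t) ∈ h.sylow := by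
    intro z
    constructor
    · rintro ⟨w, hw, rfl⟩
      exact mem_map_of_mem _ hw
    · rintro ⟨s, hs, hsz⟩
      exact ⟨⟨s, mem_sup_right hs⟩, hs, Subtype.ext hsz⟩
  have hyn' : (⟨y, hyH⟩ : H.map (qm t)) ∈ normalizer (((S'.subgroupOf H).map f : Subgroup _) : Set _) := by
    refine mem_normalizer_iff.2 fun z => ?_
    rw [himg, himg]
    exact mem_normalizer_iff.1 hyn z
  rw [← normalizer_map_of_coprime_ker ((qm t).subgroupMap_surjective H) hker hP] at hyn'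
  obtain ⟨n, hn, hny⟩ := hyn'
  have hny' : qm t (n : C) = y := congrArg Subtype.val hny
  have hnS : ((n : C) : G) ∈ normalizer ((S : Subgroup G) : Set G) := ZStarApps.mem_normalizer_of_maps
    fun s hs => (mem_normalizer_iff.1 hn ⟨⟨s, h.le hs⟩, mem_sup_right hs⟩).1 hs
  have hSL : S' ≤ normalizer (L' : Set ↥C) := fun s hs => by
    refine ZStarApps.mem_normalizer_of_maps fun z hz => ?_
    exact (mem_normalizer_iff.1 (h.le_norm hL hs) z).1 hz
  have hmem : (n : C) ∈ ((L' ⊔ S' : Subgroup C) : Set C) := n.2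
  rw [coe_mul_of_right_le_normalizer_left _ _ hSL] at hmem
  obtain ⟨l, hl, s, hs, hls⟩ := hmem
  have hsL : (s : G) ∈ L := h.mem_of_bar hL hs (by
    show qm t s ∈ bar t L
    have : qm t s = (qm t l)⁻¹ * y := by rw [← hny', ← hls, map_mul, inv_mul_cancel_left]
    rw [this]
    exact mul_mem (inv_mem (mem_map_of_mem _ hl)) hy)
  have hnL : ((n : C) : G) ∈ L := by
    rw [← hls]; exact mul_mem (s := L) hl hsL
  exact ⟨_, hnL, hnS, hny'⟩

theorem mem_ZL_iff (hL : IsComp t L) {z : G} :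
    z ∈ ZL (S : Subgroup G) L ↔ z ∈ S ∧ Triv t L z := by
  constructor
  · rintro ⟨hzS, hz⟩
    refine ⟨hzS, (h.triv_iff hL (h.le hzS)).2 (centralizes_of_norm h.coreFree (h.comp hL)
      (h.mem_sylow.2 ⟨z, hzS, rfl⟩) fun y hy hyn => ?_)⟩
    obtain ⟨l, hl, hln, rfl⟩ := h.lift_norm hL hy hyn
    rw [← map_mul, ← map_mul]
    exact congrArg _ (Subtype.ext (mem_centralizer_iff.1 hz l ⟨hl, hln⟩))
  · rintro ⟨hzS, hT⟩
    refine ⟨hzS, mem_centralizer_iff.2 fun l hl => ?_⟩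
    obtain ⟨hlL, hln⟩ := mem_inf.1 hl
    have h1 : z * l * z⁻¹ * l⁻¹ ∈ S := by
      rw [show z * l * z⁻¹ * l⁻¹ = z * (l * z⁻¹ * l⁻¹) by group]
      exact mul_mem hzS ((mem_normalizer_iff.1 hln _).1 (inv_mem hzS))
    obtain ⟨_, he⟩ := mem_Oc.1 (hT l hlL)
    exact (mul_inv_eq_iff_eq_mul.1 (mul_inv_eq_one.1 (h.eq_one h1 he))).symm

end Loc

end Cfsg.Lib.Walter
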