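import Cfsg.Agent.Walter.Structure
import Cfsg.Agent.TwoFusion.Product.Main
import Cfsg.Agent.BenderSE.Ring2.Tools
import Cfsg.Agent.Coprime.MaximalInvariant

/-!
In a simple group with abelian Sylow 2-subgroup `S` the normaliser of `S` acts irreducibly on the involutions.
-/

set_option autoImplicit false
set_option linter.unusedSectionVars false
set_option linter.style.haveILetI false

namespace Cfsg.Lib.Walter

open Subgroup
open scoped commutatorElement

universe u

variable {G : Type u} [Group G] [Finite G]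

/-- Conjugation of a subgroup by a subgroup of its normaliser. -/
def conjHom (N W : Subgroup G) (h : N ≤ normalizer (W : Set G)) : ↥N →* MulAut ↥W where
  toFun g := GenDihedral.cj W g (h g.2)
  map_one' := MulEquiv.ext fun x => Subtype.ext (show (1 : G) * x * (1 : G)⁻¹ = x by simp)
  map_mul' a b := MulEquiv.ext fun x => Subtype.ext
    (show (a : G) * b * x * ((a : G) * b)⁻¹ = a * (b * x * (b : G)⁻¹) * (a : G)⁻¹ by group)

theorem conjHom_apply {N W : Subgroup G} (h : N ≤ normalizer (W : Set G)) (g : N) (x : W) :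
    (conjHom N W h g x : G) = g * x * (g : G)⁻¹ := rfl

/-- The image has odd order when the kernel contains a Sylow 2-subgroup. -/
theorem odd_conjHom (S : Sylow 2 G) {N W : Subgroup G} (h : N ≤ normalizer (W : Set G))
    (hSN : (S : Subgroup G) ≤ N) (hc : ∀ s ∈ S, ∀ x ∈ W, s * x = x * s) :
    Odd (Nat.card (conjHom N W h).range) := by
  haveI : Fact (Nat.Prime 2) := ⟨Nat.prime_two⟩
  rw [← index_ker, ← Nat.not_even_iff_odd]
  intro he
  refine S.not_dvd_index (he.two_dvd.trans ((index_dvd_of_le ?_).trans (relIndex_dvd_index_of_le hSN)))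
  intro s hs
  refine MonoidHom.mem_ker.2 (MulEquiv.ext fun x => Subtype.ext ?_)
  show (s : G) * x * (s : G)⁻¹ = x
  rw [hc _ (mem_subgroupOf.1 hs) x x.2, mul_inv_cancel_right]

/-- `N(S)` is irreducible on the involutions of `S`. -/
theorem invariant_eq [IsSimpleGroup G] (hnab : ¬ IsMulCommutative G) (hab : AbTwo G) (S : Sylow 2 G)
    {U : Subgroup G} (hU : U ≤ S) (hsq : ∀ x ∈ U, x * x = 1)
    (hn : normalizer ((S : Subgroup G) : Set G) ≤ normalizer (U : Set G)) :
    U = ⊥ ∨ ∀ x ∈ S, x * x = 1 → x ∈ U := by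
  classical
  haveI : Fact (Nat.Prime 2) := ⟨Nat.prime_two⟩
  rw [or_iff_not_imp_left]
  intro hU1 x hx hxx
  set N := normalizer ((S : Subgroup G) : Set G)
  let W : Subgroup G :=
    { carrier := {y | y ∈ S ∧ y * y = 1}
      one_mem' := ⟨one_mem _, one_mul 1⟩
      mul_mem' := fun {a b} ha hb => ⟨mul_mem ha.1 hb.1, by
        rw [(show Commute b a from hab S b hb.1 a ha.1).mul_mul_mul_comm, ha.2, hb.2, one_mul]⟩
      inv_mem' := fun {a} ha => ⟨inv_mem ha.1, by rw [← mul_inv_rev, ha.2, inv_one]⟩ }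
  have hWS : ∀ y, y ∈ W ↔ y ∈ S ∧ y * y = 1 := fun y => Iff.rfl
  have hNW : N ≤ normalizer (W : Set G) := fun g hg => ZStarApps.mem_normalizer_of_maps fun y hy =>
    ⟨(mem_normalizer_iff.1 hg y).1 hy.1, by rw [_root_.conj_mul, hy.2, mul_one, mul_inv_cancel]⟩
  have hUW : U ≤ W := fun y hy => ⟨hU hy, hsq y hy⟩
  set σ := conjHom N W hNW
  have hodd : ¬ 2 ∣ Nat.card σ.range := Nat.two_dvd_ne_zero.2 (Nat.odd_iff.1
    (odd_conjHom S hNW le_normalizer fun s hs y hy => hab S s hs y hy.1))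
  obtain ⟨C, hC1, hC2, hC3⟩ := Cfsg.Lib.Coprime.MaximalInvariant.exists_invariant_complement
    (fun a b => Subtype.ext (hab S a a.2.1 b b.2.1))
    (fun a => Subtype.ext (by rw [pow_two]; exact a.2.2)) hodd σ.range.subtype (U.subgroupOf W) (by
      rintro ⟨_, g, rfl⟩ y hy
      exact (mem_normalizer_iff.1 (hn g.2) _).1 (mem_subgroupOf.1 hy))
  -- strongly closed
  have hclosed : ∀ V : Subgroup G, V ≤ W → (∀ g ∈ N, ∀ y ∈ V, g * y * g⁻¹ ∈ V) →
      Cfsg.IsStronglyClosed V (S : Subgroup G) := fun V hV hinv => ⟨fun y hy => (hV hy).1, fun y hy g hg => by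
    obtain ⟨n, hn, hny⟩ := Cfsg.Lib.BenderSE.Ring2.fusion_abelian S (hab S) (hV hy).1 hg rfl
    exact hny ▸ hinv n hn y hy⟩
  set U' := C.map W.subtype with hU'
  have hpf := Cfsg.Lib.ProdFusion.product_fusion G S U U'
    (hclosed U hUW fun g hg y hy => (mem_normalizer_iff.1 (hn hg) y).1 hy)
    (hclosed U' (map_subtype_le _) (by
      rintro g hg _ ⟨c, hc, rfl⟩
      exact ⟨_, hC3 ⟨σ ⟨g, hg⟩, ⟨g, hg⟩, rfl⟩ c hc, rfl⟩))
    (fun a ha b hb => hab S a (hU ha) b (map_subtype_le C hb).1)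
    (eq_bot_iff.2 (by
      rintro y ⟨hy, c, hc, rfl⟩
      have : c ∈ U.subgroupOf W ⊓ C := ⟨hy, hc⟩
      rw [hC1, mem_bot] at this
      rw [this]; exact one_mem _))
  by_contra hxU
  have hU'1 : U' ≠ ⊥ := fun e => by
    rw [hU', map_eq_bot_iff_of_injective _ W.subtype_injective] at e
    rw [e, sup_bot_eq] at hC2
    exact hxU (subgroupOf_eq_top.1 hC2 ⟨hx, hxx⟩)
  have htop : ∀ V : Subgroup G, V ≠ ⊥ → normalClosure (V : Set G) = ⊤ := fun V hV =>
    (IsSimpleGroup.eq_bot_or_eq_top_of_normal _ inferInstance).resolve_left fun e => hV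
      (eq_bot_iff.2 fun y hy => e ▸ subset_normalClosure hy)
  rw [htop U hU1, htop U' hU'1] at hpf
  haveI : (Cfsg.pPrimeCore 2 G).Normal := Cfsg.Lib.Components.normal_of_mem_sSup_normal fun _ h => h.1
  rcases IsSimpleGroup.eq_bot_or_eq_top_of_normal (Cfsg.pPrimeCore 2 G) inferInstance with e | e
  · rw [e, le_bot_iff, ← _root_.commutator_def, commutator_eq_bot_iff_center_eq_top] at hpf
    exact hnab ⟨⟨fun a b => mem_center_iff.1 (hpf ▸ mem_top b) a⟩⟩
  · have hcop := Cfsg.Lib.Components.coprime_card_pPrimeCore (G := G) 2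
    rw [e, card_top] at hcop
    obtain ⟨y, hy, hy1⟩ := U.bot_or_exists_ne_one.resolve_left hU1
    refine (Nat.Prime.coprime_iff_not_dvd Nat.prime_two).1 hcop.symm ?_
    have := orderOf_dvd_natCard (G := G) y
    rwa [orderOf_eq_prime (by rw [pow_two]; exact hsq y hy) hy1] at this

end Cfsg.Lib.Walter
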