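import Cfsg.Agent.Walter.OddLinearParts.Extension

/-!
An irreducible group of odd order on an elementary abelian 2-group with an element of order `2 ^ n - 1`
all whose nontrivial powers have the same fixed space of codimension `n`.
-/

set_option autoImplicit false
set_option linter.unusedSectionVars false
set_option linter.style.haveILetI false

namespace Cfsg.Lib.Walter

open OddLin

theorem odd_linear {N V : Type*} [Group N] [Finite N] [CommGroup V] [Finite V] (hN : Odd (Nat.card N))
    (hV : ∀ v : V, v ^ 2 = 1) (φ : N →* MulAut V) (hφ : Function.Injective φ)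
    (hirr : ∀ U : Subgroup V, (∀ g : N, ∀ v ∈ U, φ g v ∈ U) → U = ⊥ ∨ U = ⊤)
    {m n : ℕ} (hn : 2 ≤ n) (hnm : n < m) (hm : Nat.card V = 2 ^ m) (r : N) (hr : orderOf r = 2 ^ n - 1)
    (Z : Subgroup V) (hZ : Nat.card Z = 2 ^ (m - n))
    (hfix : ∀ k : ℕ, r ^ k ≠ 1 → ∀ v : V, φ (r ^ k) v = v ↔ v ∈ Z) :
    (n = 2 ∧ m = 3) ∨ 2 * n + 2 ≤ m := by
  classical
  by_contra hcon
  obtain ⟨h23, hsmall⟩ := not_or.1 hcon
  rw [not_le] at hsmall
  let ψ : N →* AddMonoid.End (Additive V) := {
    toFun := fun g => MonoidHom.toAdditive (φ g).toMonoidHom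
    map_one' := AddMonoidHom.ext fun x => by
      show Additive.ofMul (φ 1 x.toMul) = x
      rw [map_one]; rfl
    map_mul' := fun g h => AddMonoidHom.ext fun x => by
      show Additive.ofMul (φ (g * h) x.toMul) = Additive.ofMul (φ g (φ h x.toMul))
      rw [map_mul]; rfl }
  have d : OddLin.Sett ψ m n r (Subgroup.toAddSubgroup Z) := {
    odd := hN
    two := fun v => congrArg Additive.ofMul (show v.toMul * v.toMul = 1 by rw [← sq]; exact hV _)
    inj := fun g h e => hφ (MulEquiv.ext fun x =>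
      congrArg (fun f : AddMonoid.End (Additive V) => (f (Additive.ofMul x)).toMul) e)
    irr := fun U hU => by
      rcases hirr (Subgroup.toAddSubgroup.symm U) (fun g v hv => hU g (Additive.ofMul v) hv) with h | h
      · left
        rw [← Subgroup.toAddSubgroup.apply_symm_apply U, h]
        exact map_bot _
      · right
        rw [← Subgroup.toAddSubgroup.apply_symm_apply U, h]
        exact map_top _
    hn := hn
    hnm := hnm
    hm := (Nat.card_congr Additive.toMul).trans hm
    hr := hr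
    hZ := hZ
    hfix := fun k hk v => ⟨fun h => (hfix k hk v.toMul).1 (congrArg Additive.toMul h),
      fun h => congrArg Additive.ofMul ((hfix k hk v.toMul).2 h)⟩ }
  have hfield : ∀ A : Subgroup N, A.Normal → (∀ a ∈ A, ∀ b ∈ A, a * b = b * a) →
      (∀ x ∈ alg ψ A, x ≠ 0 → ∃ y ∈ alg ψ A, x * y = 1) ∧ ∀ x ∈ alg ψ A, Commute (ψ r) x := by
    intro A hA hAc
    have hinv := (d.invertible_or_large hA hAc).resolve_left (by omega)
    exact ⟨hinv, d.linear_or hsmall h23 hA hAc hinv⟩
  obtain ⟨A, ⟨hA, hAc⟩, hmax⟩ := Set.exists_max_image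
    {A : Subgroup N | A.Normal ∧ ∀ a ∈ A, ∀ b ∈ A, a * b = b * a} (fun A => Nat.card A) (Set.toFinite _)
    ⟨⊥, inferInstance, fun a ha b hb => by rw [Subgroup.mem_bot.1 ha, Subgroup.mem_bot.1 hb]⟩
  haveI := hA
  obtain ⟨hinv, hlin⟩ := hfield A hA hAc
  have hmax' : ∀ A' : Subgroup N, A'.Normal → (∀ a ∈ A', ∀ b ∈ A', a * b = b * a) → A ≤ A' → A' = A :=
    fun A' hA' hAc' hle => (Subgroup.eq_of_le_of_card_ge hle (hmax A' ⟨hA', hAc'⟩)).symm
  set C := Subgroup.centralizer (A : Set N) with hC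
  have hrC : r ∈ C := Subgroup.mem_centralizer_iff.2 fun a ha => d.inj (by
    rw [map_mul, map_mul]; exact (hlin _ (psi_mem_alg ha)).eq.symm)
  have hrA : r ∉ A := by
    intro hr'
    obtain ⟨z, hz, hz0⟩ := d.Z_ne_bot
    have hx : (ψ r - 1 : AddMonoid.End (Additive V)) ∈ alg ψ A := sub_mem (psi_mem_alg hr') (one_mem _)
    obtain ⟨y, hy, hxy⟩ := hinv _ hx (sub_ne_zero.2 fun h => d.r_ne_one (d.inj (by rw [h, map_one])))
    rw [(alg_comm hAc hx hy).eq] at hxy
    refine hz0 ?_
    have h2 : (ψ r - 1 : AddMonoid.End (Additive V)) z = 0 := by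
      show ψ r z - z = 0
      rw [(d.mem_Z_iff z).1 hz, sub_self]
    have h1 := congrArg (fun f : AddMonoid.End (Additive V) => f z) hxy
    exact h1.symm.trans ((congrArg y h2).trans (map_zero _))
  have hAC : A < C := lt_of_le_not_ge
    (fun a ha => Subgroup.mem_centralizer_iff.2 fun b hb => hAc b hb a ha) fun h => hrA (h hrC)
  haveI : C.Normal := inferInstance
  obtain ⟨B, q, e⟩ := exists_ext hN hA (inferInstance : C.Normal) hAC
    (fun c hc a ha => (Subgroup.mem_centralizer_iff.1 hc a ha).symm) hAc hmax'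
  exact d.ext_bound e hAc hinv hlin hsmall

end Cfsg.Lib.Walter
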