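import Cfsg.Agent.Walter.Setting
import Cfsg.Agent.InvolCalc.ZStarApps

/-!
Rotations of the Sylow 2-subgroup inside a typed group.
-/

set_option autoImplicit false
set_option linter.unusedSectionVars false
set_option linter.style.haveILetI false

namespace Cfsg.Lib.Walter

open Subgroup

universe u

variable {L : Type u} [Group L]

/-- An element of `N(P)` which is semiregular of order `|P| - 1` on the non-identity elements of `P`. -/
def Rot (P : Subgroup L) : Prop :=
  ∃ r ∈ normalizer (P : Set L), (∀ k : ℕ, Nat.card P - 1 ∣ k → ∀ x ∈ P, r ^ k * x * (r ^ k)⁻¹ = x) ∧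
    ∀ k : ℕ, ¬ Nat.card P - 1 ∣ k → ∀ x ∈ P, r ^ k * x * (r ^ k)⁻¹ = x → x = 1

theorem Rot.map {M : Type*} [Group M] (e : L ≃* M) {P : Subgroup L} (h : Rot P) : Rot (P.map e.toMonoidHom) := by
  obtain ⟨r, hr, h1, h2⟩ := h
  refine ⟨e r, ?_, ?_, ?_⟩
  · rw [← map_equiv_normalizer_eq P e]
    exact ⟨r, hr, rfl⟩
  · rw [card_map_of_injective e.injective]
    rintro k hk _ ⟨x, hx, rfl⟩
    have := congrArg e (h1 k hk x hx)
    rwa [map_mul, map_mul, map_inv, map_pow] at this
  · rw [card_map_of_injective e.injective]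
    rintro k hk _ ⟨x, hx, rfl⟩ h
    have h' : e (r ^ k * x * (r ^ k)⁻¹) = e x := by rw [map_mul, map_mul, map_inv, map_pow]; exact h
    rw [h2 k hk x hx (e.injective h'), map_one]

variable [Finite L]

theorem Rot.conj_sylow [Fact (Nat.Prime 2)] (Q P : Sylow 2 L) (h : Rot (Q : Subgroup L)) :
    Rot (P : Subgroup L) := by
  obtain ⟨g, hg⟩ := MulAction.exists_smul_eq L Q P
  rw [← hg]
  exact h.map (MulAut.conj g)

/-- A rotation from an element of prime order `|P| - 1` on an elementary group of order 4 or 8. -/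
theorem rot_of_prime {P : Subgroup L} {ℓ : ℕ} (hℓ : ℓ.Prime) (hcard : Nat.card P = ℓ + 1)
    (h2 : ℓ = 3 ∨ ℓ = 7)
    (hdvd : ℓ ∣ (centralizer (P : Set L)).relIndex (normalizer (P : Set L))) : Rot P := by
  classical
  haveI := Fact.mk hℓ
  set N := normalizer (P : Set L)
  set C := centralizer (P : Set L)
  haveI : (C.subgroupOf N).Normal := by
    rw [normal_subgroupOf_iff (centralizer_le_normalizer _)]
    intro c g hc hg
    refine mem_centralizer_iff.2 fun x hx => ?_
    have hy : g⁻¹ * x * g ∈ P := by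
      simpa using (mem_normalizer_iff.1 (inv_mem hg) x).1 hx
    have h1 := mem_centralizer_iff.1 hc _ hy
    calc x * (g * c * g⁻¹) = g * ((g⁻¹ * x * g) * c) * g⁻¹ := by group
      _ = g * (c * (g⁻¹ * x * g)) * g⁻¹ := by rw [h1]
      _ = g * c * g⁻¹ * x := by group
  obtain ⟨q, hq⟩ := exists_prime_orderOf_dvd_card' (G := ↥N ⧸ C.subgroupOf N) ℓ (by
    rw [← index_eq_card]; exact hdvd)
  obtain ⟨⟨r, hr⟩, rfl⟩ := QuotientGroup.mk'_surjective (C.subgroupOf N) q
  have hmem : ∀ k : ℕ, (QuotientGroup.mk' (C.subgroupOf N) ⟨r, hr⟩) ^ k = 1 ↔ r ^ k ∈ C := fun k => by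
    rw [← map_pow, QuotientGroup.mk'_apply, QuotientGroup.eq_one_iff, mem_subgroupOf]; rfl
  refine ⟨r, hr, fun k hk x hx => ?_, fun k hk x hx hfix => ?_⟩
  · rw [hcard, Nat.add_sub_cancel, ← hq] at hk
    have h := (hmem k).1 (orderOf_dvd_iff_pow_eq_one.1 hk)
    rw [← mem_centralizer_iff.1 h x hx, mul_inv_cancel_right]
  rw [hcard, Nat.add_sub_cancel] at hk
  -- `c` has order `ℓ` on `P`
  set c := r ^ k with hc
  have hcN : c ∈ N := pow_mem hr k
  have hcC : c ∉ C := fun h => hk (hq ▸ orderOf_dvd_iff_pow_eq_one.2 ((hmem k).2 h))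
  have hcl : c ^ ℓ ∈ C := by
    rw [hc, ← pow_mul, ← hmem, pow_mul]
    exact orderOf_dvd_iff_pow_eq_one.1 ((orderOf_pow_dvd k).trans hq.dvd)
  have hmaps : ∀ y, c * y * c⁻¹ ∈ P ↔ y ∈ P := fun y => ((mem_normalizer_iff.1 hcN) y).symm
  let σ : Equiv.Perm P := (MulAut.conj c).toEquiv.subtypeEquiv fun y => (hmaps y).symm
  have hσ : ∀ y : P, ((σ y : P) : L) = c * y * c⁻¹ := fun y => rfl
  have hpow : ∀ (j : ℕ) (y : P), (((σ ^ j) y : P) : L) = c ^ j * y * (c ^ j)⁻¹ := by
    intro j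
    induction j with
    | zero => intro y; simp
    | succ j ih =>
      intro y
      rw [pow_succ', Equiv.Perm.mul_apply, hσ, ih, pow_succ']
      group
  have hσl : σ ^ ℓ = 1 := Equiv.ext fun y => Subtype.ext (by
    rw [hpow, Equiv.Perm.one_apply, ← mem_centralizer_iff.1 hcl _ y.2, mul_inv_cancel_right])
  have hp : IsPGroup ℓ (zpowers σ) := by
    obtain ⟨j, -, hj⟩ := (Nat.dvd_prime_pow hℓ).1 (by
      rw [pow_one]; exact orderOf_dvd_of_pow_eq_one hσl : orderOf σ ∣ ℓ ^ 1)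
    exact IsPGroup.of_card (n := j) (by rw [Nat.card_zpowers, hj])
  let F : Subgroup L := P ⊓ centralizer ({c} : Set L)
  let e : MulAction.fixedPoints (zpowers σ) P ≃ F :=
    { toFun := fun y => ⟨(y.1 : L), y.1.2, mem_centralizer_singleton_iff.2 (by
        have := congrArg Subtype.val (y.2 ⟨σ, mem_zpowers σ⟩)
        change ((σ y.1 : P) : L) = y.1 at this
        rw [hσ] at this
        exact (mul_inv_eq_iff_eq_mul.1 this).symm)⟩
      invFun := fun y => ⟨⟨y, y.2.1⟩, by
        rintro ⟨τ, hτ⟩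
        obtain ⟨i, rfl⟩ := hτ
        have h1 : σ ⟨y, y.2.1⟩ = ⟨y, y.2.1⟩ := Subtype.ext (by
          rw [hσ]; exact mul_inv_eq_iff_eq_mul.2 (mem_centralizer_singleton_iff.1 y.2.2).symm)
        exact Equiv.Perm.zpow_apply_eq_self_of_apply_eq_self h1 i⟩
      left_inv := fun y => rfl
      right_inv := fun y => rfl }
  have hmod := hp.card_modEq_card_fixedPoints P
  rw [Nat.card_congr e, hcard] at hmod
  have hd : Nat.card F ∣ Nat.card P := card_dvd_of_le inf_le_left
  rw [hcard] at hd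
  by_contra hx1
  have hF1 : 1 < Nat.card F := Finite.one_lt_card_iff_nontrivial.2
    ⟨⟨x, hx, mem_centralizer_singleton_iff.2 (mul_inv_eq_iff_eq_mul.1 hfix).symm⟩, 1,
      fun e => hx1 (congrArg Subtype.val e)⟩
  refine hcC (mem_centralizer_iff.2 fun z hz => ?_)
  have hFP : F = P := by
    refine Subgroup.eq_of_le_of_card_ge inf_le_left ?_
    rcases h2 with rfl | rfl <;>
    · have hle := Nat.le_of_dvd (by omega) hd
      simp only [Nat.ModEq] at hmod
      interval_cases hF : Nat.card F <;> omega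
  exact mem_centralizer_singleton_iff.1 (hFP.ge hz).2

end Cfsg.Lib.Walter
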