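import Cfsg.Agent.Walter.LocalQuot
import Cfsg.Agent.Walter.Fusion
import Cfsg.Agent.Walter.OddLinear

/-!
The local facts at the involutions of the Sylow subgroup in the minimal configuration, and the dichotomy
rank three / `|S ∩ L|² * 4 ≤ |S|`.
-/

set_option autoImplicit false
set_option linter.unusedSectionVars false
set_option linter.style.haveILetI false

namespace Cfsg.Lib.Walter

open Subgroup Cfsg.Lib.Components
open scoped commutatorElement

universe u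

variable {G : Type u} [Group G] [Finite G] {S : Sylow 2 G} {t : G} {L : Subgroup G}

namespace Loc

variable (h : Loc S t)
include h

theorem exists_part (hL : IsComp t L) {s : G} (hs : s ∈ S) :
    ∃ a, a ∈ (S : Subgroup G) ⊓ L ∧ a⁻¹ * s ∈ ZL (S : Subgroup G) L := by
  obtain ⟨a', haT, haL, hac⟩ := exists_inner h.coreFree (h.comp hL) (h.mem_sylow.2 ⟨s, hs, rfl⟩)
  obtain ⟨a, ha, rfl⟩ := h.mem_sylow.1 haT
  refine ⟨a, ⟨ha, h.mem_of_bar hL ha haL⟩, ?_⟩
  have hm : a⁻¹ * s ∈ S := mul_mem (inv_mem ha) hs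
  refine (h.mem_ZL_iff hL).2 ⟨hm, (h.triv_iff hL (h.le hm)).2 ?_⟩
  exact hac

theorem ZL_inf (hL : IsComp t L) : ZL (S : Subgroup G) L ⊓ ((S : Subgroup G) ⊓ L) = ⊥ := by
  refine eq_bot_iff.2 fun x hx => mem_bot.2 (h.eq_one hx.2.1 ?_)
  exact mem_bot.1 ((comp_center h.coreFree (h.comp hL)).le
    ⟨mem_map_of_mem _ (show (⟨x, h.le hx.2.1⟩ : ↥(centralizer ({t} : Set G))) ∈ L.subgroupOf _ from hx.2.2),
      (h.triv_iff hL (h.le hx.2.1)).1 ((h.mem_ZL_iff hL).1 hx.1).2⟩)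

theorem ZL_sup (hL : IsComp t L) : ZL (S : Subgroup G) L ⊔ ((S : Subgroup G) ⊓ L) = S := by
  refine le_antisymm (sup_le inf_le_left inf_le_left) fun s hs => ?_
  obtain ⟨a, ha, hz⟩ := h.exists_part hL hs
  have := mul_mem (mem_sup_right (S := ZL (S : Subgroup G) L) ha)
    (mem_sup_left (T := (S : Subgroup G) ⊓ L) hz)
  rwa [mul_inv_cancel_left] at this

theorem mem_ZL_self (hL : IsComp t L) : t ∈ ZL (S : Subgroup G) L := by
  refine (h.mem_ZL_iff hL).2 ⟨h.mem, (h.triv_iff hL (h.le h.mem)).2 (mem_centralizer_iff.2 ?_)⟩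
  rintro _ ⟨l, -, rfl⟩
  rw [← map_mul, ← map_mul]
  exact congrArg _ (Subtype.ext (mem_centralizer_singleton_iff.1 l.2))

theorem card_ge (hL : IsComp t L) : 4 ≤ Nat.card ↥((S : Subgroup G) ⊓ L) := by
  rw [h.card_inf hL]; exact Walter.card_inf h.coreFree (h.comp hL)

theorem sq_inf (hL : IsComp t L) {a : G} (ha : a ∈ (S : Subgroup G) ⊓ L) : a * a = 1 :=
  h.eq_one (mul_mem ha.1 ha.1) (comp_sq h.coreFree (h.comp hL)
    (mem_map_of_mem _ (show (⟨a, h.le ha.1⟩ : ↥(centralizer ({t} : Set G))) ∈ L.subgroupOf _ from ha.2))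
    (h.mem_sylow.2 ⟨a, ha.1, rfl⟩))

/-- A component forces `S` elementary abelian. -/
theorem elementary (hL : IsComp t L) : ∀ x ∈ S, x * x = 1 := by
  haveI : Fact (Nat.Prime 2) := ⟨Nat.prime_two⟩
  haveI := h.min.simple
  intro x hx
  by_contra hne
  let U : Subgroup G :=
    { carrier := {y | y * y = 1 ∧ ∃ z ∈ S, z * z = y}
      one_mem' := ⟨one_mul 1, 1, one_mem _, one_mul 1⟩
      mul_mem' := by
        rintro a b ⟨ha, z, hz, hza⟩ ⟨hb, w, hw, hwb⟩
        have hzw : Commute w z := h.min.ab S w hw z hz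
        refine ⟨?_, z * w, mul_mem hz hw, by rw [hzw.mul_mul_mul_comm, hza, hwb]⟩
        have hab : Commute b a := hza ▸ hwb ▸ ((hzw.mul_right hzw).mul_left (hzw.mul_right hzw))
        rw [hab.mul_mul_mul_comm, ha, hb, one_mul]
      inv_mem' := by
        rintro a ⟨ha, z, hz, hza⟩
        exact ⟨by rw [← mul_inv_rev, ha, inv_one], z⁻¹, inv_mem hz, by rw [← mul_inv_rev, hza]⟩ }
  rcases invariant_eq h.min.nab h.min.ab S (U := U) (fun y ⟨_, z, hz, e⟩ => e ▸ mul_mem hz hz)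
    (fun y hy => hy.1) (fun g hg => ZStarApps.mem_normalizer_of_maps fun y ⟨hy, z, hz, e⟩ =>
      ⟨by rw [_root_.conj_mul, hy, mul_one, mul_inv_cancel], g * z * g⁻¹, (mem_normalizer_iff.1 hg z).1 hz,
        by rw [_root_.conj_mul, e]⟩) with e | e
  · -- some power of `x` squares to an involution
    obtain ⟨j, hj⟩ := S.isPGroup' ⟨x, hx⟩
    have hj' : x ^ 2 ^ j = 1 := congrArg Subtype.val hj
    obtain ⟨i, -, hi⟩ := (Nat.dvd_prime_pow Nat.prime_two).1 (orderOf_dvd_of_pow_eq_one hj')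
    have hi2 : 2 ≤ i := by
      by_contra h2
      refine hne ?_
      rw [← pow_two, ← orderOf_dvd_iff_pow_eq_one, hi]
      exact (pow_dvd_pow 2 (show i ≤ 1 by omega)).trans (by norm_num)
    obtain ⟨k, rfl⟩ := Nat.exists_eq_add_of_le' hi2
    have h1 : x ^ 2 ^ (k + 1) ∈ U := by
      refine ⟨?_, x ^ 2 ^ k, pow_mem hx _, by rw [← pow_add]; congr 1; ring⟩
      rw [← pow_add, show 2 ^ (k + 1) + 2 ^ (k + 1) = 2 ^ (k + 2) by ring, ← hi, pow_orderOf_eq_one]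
    rw [e, mem_bot, ← orderOf_dvd_iff_pow_eq_one, hi] at h1
    exact absurd ((Nat.pow_dvd_pow_iff_le_right (by norm_num)).1 h1) (by omega)
  · haveI : Nontrivial ↥((S : Subgroup G) ⊓ L) :=
      Finite.one_lt_card_iff_nontrivial.1 (by have := h.card_ge hL; omega)
    obtain ⟨⟨a, ha⟩, ha1⟩ := exists_ne (1 : ↥((S : Subgroup G) ⊓ L))
    obtain ⟨-, z, hz, hza⟩ := e a ha.1 (h.sq_inf hL ha)
    obtain ⟨p, hp, hpz⟩ := h.exists_part hL hz
    refine ha1 (Subtype.ext (mem_bot.1 ((h.ZL_inf hL).le ⟨?_, ha⟩)))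
    have hc : Commute (p⁻¹ * z) p := h.min.ab S _ hpz.1 p hp.1
    have he : a = (p⁻¹ * z) * (p⁻¹ * z) := by
      rw [← hza]
      calc z * z = p * (p⁻¹ * z) * (p * (p⁻¹ * z)) := by group
        _ = p * p * ((p⁻¹ * z) * (p⁻¹ * z)) := hc.mul_mul_mul_comm _ _
        _ = _ := by rw [h.sq_inf hL hp, one_mul]
    show a ∈ ZL (S : Subgroup G) L
    rw [he]
    exact mul_mem hpz hpz

/-- A rotation of `S ∩ L` in `L ∩ N(S)`. -/
theorem exists_rot (hL : IsComp t L) :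
    ∃ r, r ∈ L ∧ r ∈ normalizer ((S : Subgroup G) : Set G) ∧
      (∀ k : ℕ, Nat.card ↥((S : Subgroup G) ⊓ L) - 1 ∣ k →
        ∀ x ∈ (S : Subgroup G) ⊓ L, r ^ k * x * (r ^ k)⁻¹ = x) ∧
      ∀ k : ℕ, ¬ Nat.card ↥((S : Subgroup G) ⊓ L) - 1 ∣ k →
        ∀ x ∈ (S : Subgroup G) ⊓ L, r ^ k * x * (r ^ k)⁻¹ = x → x = 1 := by
  obtain ⟨r', hr', hrn, h1, h2⟩ := rot_in h.coreFree (h.comp hL)
  obtain ⟨r, hr, hrN, rfl⟩ := h.lift_norm hL hr' hrn
  have hcard := h.card_inf hL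
  have hmem : ∀ {x}, ∀ hx : x ∈ (S : Subgroup G) ⊓ L,
      qm t ⟨x, h.le hx.1⟩ ∈ (h.sylow : Subgroup (Qt t)) ⊓ bar t L := fun {x} hx =>
    ⟨h.mem_sylow.2 ⟨x, hx.1, rfl⟩, mem_map_of_mem _ hx.2⟩
  have hconj : ∀ (k : ℕ) {x}, ∀ hx : x ∈ S, r ^ k * x * (r ^ k)⁻¹ ∈ S := fun k {x} hx =>
    (mem_normalizer_iff.1 (pow_mem hrN k) x).1 hx
  refine ⟨r, hr, hrN, fun k hk x hx => ?_, fun k hk x hx he => h.eq_one hx.1 ?_⟩
  · refine h.inj (hconj k hx.1) hx.1 ?_
    have := h1 k (hcard ▸ hk) _ (hmem hx)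
    rw [← map_pow, ← map_inv, ← map_mul, ← map_mul] at this
    exact this
  · refine h2 k (hcard ▸ hk) _ (hmem hx) ?_
    rw [← map_pow, ← map_inv, ← map_mul, ← map_mul]
    exact congrArg _ (Subtype.ext he)

/-- The data of the rotation on `S`. -/
theorem rot_data (hsq : ∀ x ∈ S, x * x = 1) (hL : IsComp t L) :
    ∃ r, r ∈ normalizer ((S : Subgroup G) : Set G) ∧
      (∀ k : ℕ, Nat.card ↥((S : Subgroup G) ⊓ L) - 1 ∣ k → ∀ x ∈ S, r ^ k * x * (r ^ k)⁻¹ = x) ∧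
      (∀ k : ℕ, ¬ Nat.card ↥((S : Subgroup G) ⊓ L) - 1 ∣ k →
        ∀ x ∈ S, (r ^ k * x * (r ^ k)⁻¹ = x ↔ x ∈ ZL (S : Subgroup G) L)) := by
  obtain ⟨r, hr, hrN, h1, h2⟩ := h.exists_rot hL
  have hz : ∀ (k : ℕ) {z}, z ∈ ZL (S : Subgroup G) L → r ^ k * z * (r ^ k)⁻¹ = z := by
    intro k z hz
    rw [mem_centralizer_iff.1 hz.2 (r ^ k) ⟨pow_mem hr k, pow_mem hrN k⟩, mul_inv_cancel_right]
  refine ⟨r, hrN, fun k hk x hx => ?_, fun k hk x hx => ⟨fun he => ?_, hz k⟩⟩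
  · obtain ⟨a, ha, hb⟩ := h.exists_part hL hx
    rw [show x = a * (a⁻¹ * x) by group, ← _root_.conj_mul, h1 k hk a ha, hz k hb]
  · obtain ⟨a, ha, hb⟩ := h.exists_part hL hx
    rw [show x = a * (a⁻¹ * x) by group, ← _root_.conj_mul, hz k hb, mul_left_inj] at he
    have := h2 k hk a ha he
    rwa [this, inv_one, one_mul] at hb

theorem card_mul (hL : IsComp t L) :
    Nat.card ↥(ZL (S : Subgroup G) L) * Nat.card ↥((S : Subgroup G) ⊓ L) = Nat.card ↥(S : Subgroup G) := by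
  rw [← Nat.card_prod]
  refine Nat.card_eq_of_bijective
    (fun p => (⟨(p.1 : G) * p.2, mul_mem p.1.2.1 p.2.2.1⟩ : ↥(S : Subgroup G))) ⟨fun p q e => ?_, fun s => ?_⟩
  · have e' : (p.1 : G) * p.2 = q.1 * q.2 := congrArg Subtype.val e
    have h1 : (q.1 : G)⁻¹ * p.1 = q.2 * (p.2 : G)⁻¹ := by
      rw [eq_mul_inv_iff_mul_eq, mul_assoc, e', inv_mul_cancel_left]
    have h2 : (q.1 : G)⁻¹ * p.1 = 1 := mem_bot.1 ((h.ZL_inf hL).le
      (mem_inf.2 ⟨Subgroup.mul_mem _ (Subgroup.inv_mem _ q.1.2) p.1.2,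
        h1 ▸ Subgroup.mul_mem _ q.2.2 (Subgroup.inv_mem _ p.2.2)⟩))
    have h3 : q.1 = p.1 := Subtype.ext (inv_mul_eq_one.1 h2)
    refine Prod.ext h3.symm (Subtype.ext ?_)
    rw [h3] at e'
    exact mul_left_cancel e'
  · obtain ⟨a, ha, hz⟩ := h.exists_part hL s.2
    exact ⟨(⟨_, hz⟩, ⟨a, ha⟩), Subtype.ext (by
      show a⁻¹ * (s : G) * a = s
      rw [mul_assoc, h.min.ab S s s.2 a ha.1, inv_mul_cancel_left])⟩

/-- The inequality from the lemma on odd linear groups. -/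
theorem dims (hsq : ∀ x ∈ S, x * x = 1) (hL : IsComp t L) :
    (Nat.card ↥((S : Subgroup G) ⊓ L) = 4 ∧ Nat.card ↥(S : Subgroup G) = 8) ∨
      4 * Nat.card ↥((S : Subgroup G) ⊓ L) ^ 2 ≤ Nat.card ↥(S : Subgroup G) := by
  classical
  haveI : Fact (Nat.Prime 2) := ⟨Nat.prime_two⟩
  haveI := h.min.simple
  obtain ⟨r, hrN, h1, h2⟩ := h.rot_data hsq hL
  obtain ⟨n, hn⟩ := IsPGroup.iff_card.1 (S.isPGroup'.to_le (inf_le_left : (S : Subgroup G) ⊓ L ≤ S))
  obtain ⟨m, hm⟩ := IsPGroup.iff_card.1 S.isPGroup'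
  have h4 := h.card_ge hL
  have hn2 : 2 ≤ n := by
    by_contra hcon
    have := Nat.pow_le_pow_right two_pos (show n ≤ 1 by omega)
    omega
  have hmul := h.card_mul hL
  rw [hn, hm] at hmul
  have hZS : ZL (S : Subgroup G) L ≤ (S : Subgroup G) := inf_le_left
  obtain ⟨l, hl⟩ := IsPGroup.iff_card.1 (S.isPGroup'.to_le hZS)
  have hl1 : 1 ≤ l := by
    by_contra hcon
    rw [show l = 0 by omega, pow_zero] at hl
    have := h.mem_ZL_self hL
    rw [card_eq_one.1 hl, mem_bot] at this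
    have h' := h.two
    rw [this, orderOf_one] at h'
    omega
  rw [hl, ← pow_add] at hmul
  have hlnm : l + n = m := Nat.pow_right_injective le_rfl hmul
  letI : CommGroup ↥(S : Subgroup G) :=
    { (inferInstance : Group ↥(S : Subgroup G)) with
      mul_comm := fun a b => Subtype.ext (h.min.ab S a a.2 b b.2) }
  set N := normalizer ((S : Subgroup G) : Set G)
  set σ := conjHom N (S : Subgroup G) le_rfl
  have hσ : ∀ (k : ℕ) (v : ↥(S : Subgroup G)), (((σ ⟨r, hrN⟩) ^ k) v : G) = r ^ k * v * (r ^ k)⁻¹ := by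
    intro k v
    rw [← map_pow]
    rfl
  haveI : Nontrivial ↥((S : Subgroup G) ⊓ L) := Finite.one_lt_card_iff_nontrivial.1 (by omega)
  obtain ⟨⟨a, ha⟩, ha1⟩ := exists_ne (1 : ↥((S : Subgroup G) ⊓ L))
  have hpow : ∀ k, (σ ⟨r, hrN⟩) ^ k = 1 ↔ 2 ^ n - 1 ∣ k := by
    intro k
    rw [← hn]
    constructor
    · intro e
      by_contra hk
      have he : r ^ k * a * (r ^ k)⁻¹ = a := by
        rw [← hσ k ⟨a, ha.1⟩, e]; rfl
      exact ha1 (Subtype.ext (mem_bot.1 ((h.ZL_inf hL).le ⟨(h2 k hk a ha.1).1 he, ha⟩)))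
    · intro hk
      exact MulEquiv.ext fun v => Subtype.ext (by rw [hσ, h1 k hk v v.2]; rfl)
  have hmr : ∀ g, σ g ∈ σ.range := fun g => MonoidHom.mem_range.2 ⟨g, rfl⟩
  have hord : orderOf (⟨σ ⟨r, hrN⟩, hmr _⟩ : σ.range) = 2 ^ n - 1 := by
    rw [Subgroup.orderOf_mk]
    exact Nat.dvd_antisymm (orderOf_dvd_of_pow_eq_one ((hpow _).2 dvd_rfl))
      ((hpow _).1 (pow_orderOf_eq_one _))
  have hirr : ∀ U : Subgroup ↥(S : Subgroup G), (∀ g : σ.range, ∀ v ∈ U, σ.range.subtype g v ∈ U) →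
      U = ⊥ ∨ U = ⊤ := by
    intro U hU
    rcases invariant_eq h.min.nab h.min.ab S (U := U.map (S : Subgroup G).subtype) (map_subtype_le U)
      (fun y hy => hsq y (map_subtype_le U hy)) (fun g hg => ZStarApps.mem_normalizer_of_maps (by
        rintro _ ⟨u, hu, rfl⟩
        exact ⟨_, hU ⟨σ ⟨g, hg⟩, MonoidHom.mem_range.2 ⟨⟨g, hg⟩, rfl⟩⟩ u hu, rfl⟩)) with e | e
    · exact Or.inl ((map_eq_bot_iff_of_injective _ (S : Subgroup G).subtype_injective).1 e)
    · refine Or.inr (eq_top_iff.2 fun v _ => ?_)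
      obtain ⟨w, hw, hwv⟩ := e v v.2 (hsq v v.2)
      rwa [← (S : Subgroup G).subtype_injective hwv]
  rcases odd_linear (odd_conjHom S le_rfl le_normalizer fun s hs y hy => h.min.ab S s hs y hy)
    (fun v => Subtype.ext (by rw [pow_two]; exact hsq v v.2)) σ.range.subtype σ.range.subtype_injective hirr
    hn2 (show n < m by omega) hm ⟨σ ⟨r, hrN⟩, hmr _⟩ hord ((ZL (S : Subgroup G) L).subgroupOf S) (by
      rw [Nat.card_congr (subgroupOfEquivOfLe (show ZL (S : Subgroup G) L ≤ (S : Subgroup G) from inf_le_left)).toEquiv,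
        hl, show m - n = l by omega])
    (fun k hk v => by
      have hk' : ¬ Nat.card ↥((S : Subgroup G) ⊓ L) - 1 ∣ k := fun hd => hk (Subtype.ext (by
        rw [SubgroupClass.coe_pow]; exact (hpow k).2 (hn ▸ hd)))
      rw [mem_subgroupOf, ← h2 k hk' v v.2, ← hσ k v, ← Subtype.ext_iff]
      rfl) with ⟨hn', hm'⟩ | hle
  · left; rw [hn, hm, hn', hm']; norm_num
  · right
    rw [hn, hm, ← pow_mul, show 4 = 2 ^ 2 by norm_num, ← pow_add]
    exact Nat.pow_le_pow_right two_pos (by omega)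

theorem other {L' : Subgroup G} (hL : IsComp t L) (hL' : IsComp t L') (hne : L ≠ L') :
    (S : Subgroup G) ⊓ L' ≤ ZL (S : Subgroup G) L := fun s hs =>
  (h.mem_ZL_iff hL).2 ⟨hs.1, (h.triv_iff hL (h.le hs.1)).2
    (commutator_eq_bot_iff_le_centralizer.1 (comp_commute (h.comp hL') (h.comp hL)
      fun e => hne (h.bar_inj hL hL' e.symm)) (mem_map_of_mem _ hs.2))⟩

theorem exists_comp_of_nonsolvable (hns : ¬ Group.IsSolvable ↥(centralizer ({t} : Set G))) :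
    ∃ L, IsComp t L := by
  haveI : Fact (Nat.Prime 2) := ⟨Nat.prime_two⟩
  by_contra hno
  refine hns ?_
  haveI : (Cfsg.pPrimeCore 2 ↥(centralizer ({t} : Set G))).Normal := normal_of_mem_sSup_normal fun _ h => h.1
  refine Cfsg.Lib.BenderSE.Ring2.solvable_of_quot _ (Cfsg.Agent.PF.isSolvable_of_odd _
    (Nat.coprime_two_right.1 (coprime_card_pPrimeCore 2)))
    (solvable_of_no_comp h.coreFree fun K hK => ?_)
  obtain ⟨L, hL, -⟩ := h.exists_comp hK
  exact hno ⟨L, hL⟩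

theorem generated : centralizer ({t} : Set G) ≤
    (Oc t ⊔ ⨆ L : {L : Subgroup G // IsComp t L}, (L : Subgroup G)) ⊔
      (normalizer ((S : Subgroup G) : Set G) ⊓ centralizer ({t} : Set G)) := by
  haveI : Fact (Nat.Prime 2) := ⟨Nat.prime_two⟩
  set R := (Oc t ⊔ ⨆ L : {L : Subgroup G // IsComp t L}, (L : Subgroup G)) ⊔
      (normalizer ((S : Subgroup G) : Set G) ⊓ centralizer ({t} : Set G))
  intro x hx
  set Y := R.subgroupOf (centralizer ({t} : Set G))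
  have hker : (qm t).ker ≤ Y := fun y hy =>
    mem_subgroupOf.2 (mem_sup_left (mem_sup_left (mem_Oc.2 ⟨y.2, MonoidHom.mem_ker.1 hy⟩)))
  have htop : (⊤ : Subgroup (Qt t)) ≤ Y.map (qm t) := by
    refine (le_layer_sup_normalizer h.coreFree).trans (sup_le (sSup_le fun K hK => ?_) ?_)
    · obtain ⟨L, hL, rfl⟩ := h.exists_comp hK
      exact map_mono fun y hy => mem_subgroupOf.2 (mem_sup_left (mem_sup_right
        (le_iSup (fun L : {L : Subgroup G // IsComp t L} => (L : Subgroup G)) ⟨L, hL⟩ hy)))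
    · intro y hy
      obtain ⟨n, hn, rfl⟩ := (normalizer_map_of_coprime_ker (f := qm t) (QuotientGroup.mk'_surjective _)
        (odd_ker_qm t) (P := (S : Subgroup G).subgroupOf (centralizer ({t} : Set G)))
        (S.isPGroup'.comap_of_injective _ (centralizer ({t} : Set G)).subtype_injective)).ge hy
      exact mem_map_of_mem _ (mem_subgroupOf.2 (mem_sup_right (mem_inf.2
        ⟨ZStarApps.mem_normalizer_of_maps fun s hs =>
          (mem_normalizer_iff.1 hn ⟨s, h.le hs⟩).1 hs, n.2⟩)))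
  obtain ⟨y, hy, hyx⟩ := htop (mem_top (qm t ⟨x, hx⟩))
  have := mul_mem hy (hker (show y⁻¹ * ⟨x, hx⟩ ∈ (qm t).ker by
    rw [MonoidHom.mem_ker, map_mul, map_inv, hyx, inv_mul_cancel]))
  rw [mul_inv_cancel_left] at this
  exact this

/-- The image of `O(C(b)) ∩ C(t)`. -/
theorem core_image {b : G} (hb : b ∈ S) (hb2 : orderOf b = 2) :
    ((Oc b).subgroupOf (centralizer ({t} : Set G))).map (qm t) ≤
        Cfsg.centralizerPPrimeCore 2 (qm t ⟨b, h.le hb⟩) ∧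
      Odd (Nat.card ↥(((Oc b).subgroupOf (centralizer ({t} : Set G))).map (qm t))) ∧
      (h.sylow : Subgroup (Qt t)) ≤
        normalizer ((((Oc b).subgroupOf (centralizer ({t} : Set G))).map (qm t) : Subgroup (Qt t)) : Set (Qt t)) := by
  haveI : Fact (Nat.Prime 2) := ⟨Nat.prime_two⟩
  set C := centralizer ({t} : Set G)
  set D := ((Oc b).subgroupOf C).map (qm t)
  have hn : ∀ c : C, (c : G) * b = b * c → qm t c ∈ normalizer (D : Set (Qt t)) := by
    intro c hc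
    refine ZStarApps.mem_normalizer_of_maps ?_
    rintro _ ⟨y, hy, rfl⟩
    refine ⟨c * y * c⁻¹, ?_, by rw [map_mul, map_mul, map_inv]⟩
    exact (mem_normalizer_iff.1 (centralizer_le_normalizer_centralizerPPrimeCore b
      (mem_centralizer_singleton_iff.2 hc)) y).1 hy
  have hodd : Odd (Nat.card D) := by
    refine (Nat.coprime_two_right.1 (centralizerPPrimeCore_card_coprime (p := 2) b)).of_dvd_nat
      ((card_map_dvd _ _).trans ?_)
    rw [← inf_subgroupOf_right, Nat.card_congr (subgroupOfEquivOfLe inf_le_right).toEquiv]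
    exact card_dvd_of_le inf_le_left
  refine ⟨le_centralizerPPrimeCore ?_ ?_ (Nat.coprime_two_right.2 hodd), hodd, ?_⟩
  · rintro _ ⟨y, hy, rfl⟩
    refine mem_centralizer_singleton_iff.2 ?_
    rw [← map_mul, ← map_mul]
    exact congrArg _ (Subtype.ext (mem_centralizer_singleton_iff.1 (centralizerPPrimeCore_le_centralizer b hy)))
  · intro y hy
    rw [← centralizer_map_of_coprime_ker (QuotientGroup.mk'_surjective _) (odd_ker_qm t)
      (IsPGroup.of_card (n := 1) (by rw [Nat.card_zpowers, Subgroup.orderOf_mk, hb2, pow_one]))] at hy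
    obtain ⟨c, hc, rfl⟩ := hy
    exact hn c (congrArg Subtype.val (mem_centralizer_singleton_iff.1 hc))
  · intro y hy
    obtain ⟨s, hs, rfl⟩ := h.mem_sylow.1 hy
    exact hn _ (h.min.ab S s hs b hb)

theorem bal {b x : G} (hb : b ∈ S) (hb2 : orderOf b = 2) (hL : IsComp t L) (hx : x ∈ Oc b)
    (hxt : x ∈ centralizer ({t} : Set G))
    (hcase : b ∈ ZL (S : Subgroup G) L ∨ Nat.card ↥((S : Subgroup G) ⊓ L) ≠ 4) : Triv t L x := by
  refine (h.triv_iff hL hxt).2 (core_centralizes h.coreFree (h.comp hL) (h.mem_sylow.2 ⟨b, hb, rfl⟩) ?_ ?_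
    ((h.core_image hb hb2).1 (mem_map_of_mem _ (show (⟨x, hxt⟩ : ↥(centralizer ({t} : Set G))) ∈ (Oc b).subgroupOf _ from hx))))
  · refine orderOf_eq_prime ?_ fun e => ?_
    · rw [← map_pow]
      have : (⟨b, h.le hb⟩ : ↥(centralizer ({t} : Set G))) ^ 2 = 1 := Subtype.ext (by
        push_cast; rw [← hb2, pow_orderOf_eq_one])
      rw [this, map_one]
    · rw [h.eq_one hb e, orderOf_one] at hb2
      omega
  · exact hcase.imp (fun hz => (h.triv_iff hL (h.le hb)).1 ((h.mem_ZL_iff hL).1 hz).2) fun hc => h.card_inf hL ▸ hc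

theorem faith {b x : G} (hb : b ∈ S) (hb2 : orderOf b = 2) (hx : x ∈ Oc b)
    (hxt : x ∈ centralizer ({t} : Set G)) (hall : ∀ L, IsComp t L → Triv t L x) : x ∈ Oc t := by
  obtain ⟨-, hodd, hn⟩ := h.core_image hb hb2
  refine mem_Oc.2 ⟨hxt, faith_core h.coreFree hodd hn
    (mem_map_of_mem _ (show (⟨x, hxt⟩ : ↥(centralizer ({t} : Set G))) ∈ (Oc b).subgroupOf _ from hx))
    fun K hK => ?_⟩
  obtain ⟨L, hL, rfl⟩ := h.exists_comp hK
  exact (h.triv_iff hL hxt).1 (hall L hL)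

end Loc

end Cfsg.Lib.Walter
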