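import Cfsg.Agent.Walter.Split

/-!
The branch of rank three: transitivity on the involutions of `S` and the shape of their centralisers.
-/

set_option autoImplicit false
set_option maxHeartbeats 400000
set_option linter.unusedSectionVars false
set_option linter.style.haveILetI false

namespace Cfsg.Lib.Walter

open Subgroup Cfsg.Lib.Components

universe u

variable {G : Type u} [Group G] [Finite G] {S : Sylow 2 G} {t : G} {L : Subgroup G}

theorem relIndex_comap_mk {Q : Type*} [Group Q] (N : Subgroup Q) [N.Normal] (E : Subgroup (Q ⧸ N)) :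
    N.relIndex (E.comap (QuotientGroup.mk' N)) = Nat.card E := by
  have h : (QuotientGroup.mk' N).ker.relIndex (E.comap (QuotientGroup.mk' N)) =
      Nat.card ((E.comap (QuotientGroup.mk' N)).map (QuotientGroup.mk' N)) := relIndex_ker _ _
  rw [map_comap_eq_self_of_surjective (QuotientGroup.mk'_surjective N)] at h
  rwa [QuotientGroup.ker_mk'] at h

namespace Loc

variable (h : Loc S t) (hsq : ∀ x ∈ S, x * x = 1)
include h hsq

theorem trans_of_small (hL : IsComp t L) (hP : Nat.card ↥((S : Subgroup G) ⊓ L) = 4)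
    (hS : Nat.card ↥(S : Subgroup G) = 8) :
    ∀ x ∈ S, x ≠ 1 → ∃ g ∈ normalizer ((S : Subgroup G) : Set G), g * t * g⁻¹ = x := by
  classical
  haveI : Fact (Nat.Prime 2) := ⟨Nat.prime_two⟩
  haveI : Fact (Nat.Prime 3) := ⟨Nat.prime_three⟩
  haveI := h.min.simple
  obtain ⟨r, hrN, h1, h2⟩ := h.rot_data hsq hL
  rw [hP] at h1 h2
  set N := normalizer ((S : Subgroup G) : Set G)
  set σ := conjHom N (S : Subgroup G) le_rfl
  have hodd : Odd (Nat.card σ.range) :=
    odd_conjHom S le_rfl le_normalizer fun s hs y hy => h.min.ab S s hs y hy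
  have hσ : ∀ (k : ℕ) (v : ↥(S : Subgroup G)), (((σ ⟨r, hrN⟩) ^ k) v : G) = r ^ k * v * (r ^ k)⁻¹ := by
    intro k v
    rw [← map_pow]
    rfl
  set t₀ : ↥(S : Subgroup G) := ⟨t, h.mem⟩
  let ρ : σ.range := ⟨σ ⟨r, hrN⟩, MonoidHom.mem_range.2 ⟨_, rfl⟩⟩
  set O := MulAction.orbit σ.range t₀
  have hZ2 : Nat.card ↥(ZL (S : Subgroup G) L) = 2 := by
    have := h.card_mul hL
    rw [hP, hS] at this
    omega
  have ht1 : t ≠ 1 := fun e => by have := h.two; rw [e, orderOf_one] at this; omega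
  have hne : ∀ v : O, (v : ↥(S : Subgroup G)) ≠ 1 := by
    rintro ⟨v, g, rfl⟩ e
    have e' : (g : MulAut ↥(S : Subgroup G)) t₀ = 1 := e
    exact ht1 (congrArg Subtype.val ((map_eq_one_iff _ (MulEquiv.injective _)).1 e'))
  -- the rotation fixes only `t` in the orbit
  have hfix : ∀ v : O, ρ • v = v → (v : ↥(S : Subgroup G)) = t₀ := by
    intro v hv
    have hv' : r * ((v : ↥(S : Subgroup G)) : G) * r⁻¹ = (v : ↥(S : Subgroup G)) := by
      have e := hσ 1 (v : ↥(S : Subgroup G))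
      rw [pow_one, pow_one] at e
      rw [← e]
      exact congrArg Subtype.val (congrArg Subtype.val hv : ρ • (v : ↥(S : Subgroup G)) = v)
    have hz := (h2 1 (by norm_num) _ (v : ↥(S : Subgroup G)).2).1 (by rw [pow_one]; exact hv')
    by_contra hvt
    have h3 : ({⟨1, one_mem _⟩, ⟨t, h.mem_ZL_self hL⟩, ⟨_, hz⟩} : Finset ↥(ZL (S : Subgroup G) L)).card = 3 :=
      Finset.card_eq_three.2 ⟨_, _, _, fun e => ht1 (congrArg Subtype.val e).symm,
        fun e => hne v (Subtype.ext (congrArg Subtype.val e).symm),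
        fun e => hvt (Subtype.ext (congrArg Subtype.val e).symm), rfl⟩
    haveI := Fintype.ofFinite ↥(ZL (S : Subgroup G) L)
    have := Finset.card_le_univ
      ({⟨1, one_mem _⟩, ⟨t, h.mem_ZL_self hL⟩, ⟨_, hz⟩} : Finset ↥(ZL (S : Subgroup G) L))
    rw [h3, ← Nat.card_eq_fintype_card, hZ2] at this
    omega
  have hρt : ρ • t₀ = t₀ := by
    refine Subtype.ext ?_
    show ((σ ⟨r, hrN⟩) t₀ : G) = t
    have e := hσ 1 t₀
    rw [pow_one, pow_one] at e
    rw [e]
    have := (h2 1 (by norm_num) t h.mem).2 (h.mem_ZL_self hL)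
    rwa [pow_one] at this
  have hρ3 : IsPGroup 3 ↥(zpowers ρ) := by
    obtain ⟨i, -, hi⟩ := (Nat.dvd_prime_pow Nat.prime_three).1 (orderOf_dvd_of_pow_eq_one
      (show ρ ^ 3 ^ 1 = 1 from Subtype.ext (MulEquiv.ext fun v => Subtype.ext (by
        rw [pow_one, SubgroupClass.coe_pow, hσ, h1 3 (by norm_num) v v.2]; rfl))))
    exact IsPGroup.of_card (n := i) (by rw [Nat.card_zpowers, hi])
  have hmod := hρ3.card_modEq_card_fixedPoints (α := O)
  have hone : Nat.card (MulAction.fixedPoints ↥(zpowers ρ) O) = 1 := by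
    refine Nat.card_eq_one_iff_exists.2 ⟨⟨⟨t₀, MulAction.mem_orbit_self _⟩, fun g => ?_⟩, fun v => ?_⟩
    · obtain ⟨i, hi⟩ := mem_zpowers_iff.1 g.2
      refine Subtype.ext ?_
      show (g : σ.range) • t₀ = t₀
      rw [← hi]
      exact (zpow_mem (show ρ ∈ MulAction.stabilizer σ.range t₀ from hρt) i :)
    · exact Subtype.ext (Subtype.ext (hfix v.1 (v.2 ⟨ρ, mem_zpowers ρ⟩)))
  rw [hone] at hmod
  have hdvd : Nat.card O ∣ Nat.card σ.range :=
    Nat.card_congr (MulAction.orbitEquivQuotientStabilizer σ.range t₀) ▸ Subgroup.card_quotient_dvd_card _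
  have hO7 : Nat.card O ≤ 7 := by
    have hlt : O.ncard < (Set.univ : Set ↥(S : Subgroup G)).ncard :=
      Set.ncard_lt_ncard ⟨Set.subset_univ _, fun hsub => hne ⟨1, hsub (Set.mem_univ _)⟩ rfl⟩
    rw [Set.ncard_univ, hS, ← Nat.card_coe_set_eq] at hlt
    omega
  have hOodd : Odd (Nat.card O) := hodd.of_dvd_nat hdvd
  have hO1 : Nat.card O ≠ 1 := by
    intro e
    haveI := (Nat.card_eq_one_iff_unique.1 e).1
    have htU : ∀ g ∈ N, g * t * g⁻¹ = t := fun g hg => by
      have := Subsingleton.elim (⟨(⟨σ ⟨g, hg⟩, MonoidHom.mem_range.2 ⟨_, rfl⟩⟩ : σ.range) • t₀,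
        MulAction.mem_orbit _ _⟩ : O) ⟨t₀, MulAction.mem_orbit_self _⟩
      exact congrArg (fun v : O => ((v : ↥(S : Subgroup G)) : G)) this
    rcases invariant_eq h.min.nab h.min.ab S (U := zpowers t) (zpowers_le.2 h.mem)
      (fun y hy => hsq y (zpowers_le.2 h.mem hy)) (fun g hg => by
        refine centralizer_le_normalizer _ (mem_centralizer_iff.2 fun y hy => ?_)
        obtain ⟨i, rfl⟩ := mem_zpowers_iff.1 hy
        exact ((show Commute g t from mul_inv_eq_iff_eq_mul.1 (htU g hg)).zpow_right i).eq.symm) with e' | e'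
    · exact ht1 (by rwa [zpowers_eq_bot] at e')
    · have := card_le_of_le (show (S : Subgroup G) ≤ zpowers t from fun y hy => e' y hy (hsq y hy))
      rw [hS, Nat.card_zpowers, h.two] at this
      omega
  have h7 : Nat.card O = 7 := by
    obtain ⟨k, hk⟩ := hOodd
    have h3 : Nat.card O % 3 = 1 := hmod
    omega
  intro x hx hx1
  have hxO : (⟨x, hx⟩ : ↥(S : Subgroup G)) ∈ O := by
    by_contra hxO
    have hsub : O ⊆ (Set.univ : Set ↥(S : Subgroup G)) \ {1, ⟨x, hx⟩} := fun v hv => ⟨Set.mem_univ _, by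
      rintro (rfl | rfl)
      exacts [hne ⟨1, hv⟩ rfl, hxO hv]⟩
    have := Set.ncard_le_ncard hsub
    rw [Set.ncard_sdiff (Set.subset_univ _), Set.ncard_univ, hS, Set.ncard_pair (fun e => hx1 (congrArg Subtype.val e).symm),
      ← Nat.card_coe_set_eq, h7] at this
    omega
  obtain ⟨⟨_, hg⟩, hgx⟩ := hxO
  obtain ⟨⟨g, hgN⟩, rfl⟩ := MonoidHom.mem_range.1 hg
  exact ⟨g, hgN, congrArg Subtype.val hgx⟩

omit hsq in
theorem data_of_small (hL : IsComp t L) (hP : Nat.card ↥((S : Subgroup G) ⊓ L) = 4)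
    (hS : Nat.card ↥(S : Subgroup G) = 8) : ThreeData t := by
  classical
  haveI : Fact (Nat.Prime 2) := ⟨Nat.prime_two⟩
  have A := h.coreFree
  have hK := h.comp hL
  set K := bar t L with hKdef
  obtain ⟨hsimp, hnc⟩ := comp_simple A hK
  haveI := hsimp
  obtain ⟨P, hPK⟩ := sylow_comp A hK
  have hP4 : Nat.card ↥(P : Subgroup ↥K) = 4 := by
    rw [hPK, ← inf_subgroupOf_right, Nat.card_congr (subgroupOfEquivOfLe inf_le_right).toEquiv, ← h.card_inf hL, hP]
  obtain ⟨F, iF, iFt, hq, h5, ⟨f⟩⟩ := h.min.four ↥K P (GWFour.klein_of_sq hP4 fun x =>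
    Subtype.ext ((card_four_or A hK P).1 x x.2))
  set T := (h.sylow : Subgroup (Qt t))
  set tq : Qt t := qm t ⟨t, h.le h.mem⟩
  have htT : tq ∈ T := h.mem_sylow.2 ⟨t, h.mem, rfl⟩
  have htc : ∀ y : Qt t, y * tq = tq * y := fun y => by
    obtain ⟨c, rfl⟩ := QuotientGroup.mk'_surjective (Cfsg.pPrimeCore 2 ↥(centralizer ({t} : Set G))) y
    rw [← map_mul, ← map_mul]
    exact congrArg _ (Subtype.ext (mem_centralizer_singleton_iff.1 c.2))
  have htK : tq ∈ centralizer (K : Set (Qt t)) := mem_centralizer_iff.2 fun y _ => htc y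
  have ht1 : tq ≠ 1 := fun e => by
    have := h.two
    rw [h.eq_one h.mem e, orderOf_one] at this
    omega
  have hcardT : Nat.card T = 8 := by
    rw [← hS]
    refine (Nat.card_eq_of_bijective (fun s : ↥(S : Subgroup G) => (⟨_, h.mem_sylow.2 ⟨s, s.2, rfl⟩⟩ : T))
      ⟨fun a b e => Subtype.ext (h.inj a.2 b.2 (congrArg Subtype.val e)), fun y => ?_⟩).symm
    obtain ⟨s, hs, he⟩ := h.mem_sylow.1 y.2
    exact ⟨⟨s, hs⟩, Subtype.ext he⟩
  obtain ⟨hinf, hsup⟩ := comp_split A hK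
  -- the complement of `T ∩ K`
  have hC2 : T ⊓ centralizer (K : Set (Qt t)) = zpowers tq := by
    refine (Subgroup.eq_of_le_of_card_ge (zpowers_le.2 (mem_inf.2 ⟨htT, htK⟩)) ?_).symm
    have h2 : orderOf tq = 2 := orderOf_eq_prime (by
      rw [pow_two, ← map_mul, show (⟨t, h.le h.mem⟩ : ↥(centralizer ({t} : Set G))) * ⟨t, h.le h.mem⟩ = 1 from
        Subtype.ext (GenDihedral.mul_self_of_two h.two), map_one]) ht1
    rw [Nat.card_zpowers, h2]
    have hinj : Function.Injective (fun p : ↥(T ⊓ centralizer (K : Set (Qt t))) × ↥(T ⊓ K) =>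
        (⟨(p.1 : Qt t) * p.2, mul_mem p.1.2.1 p.2.2.1⟩ : T)) := by
      intro p q e
      have e' : (p.1 : Qt t) * p.2 = q.1 * q.2 := congrArg Subtype.val e
      have h1 : (q.1 : Qt t)⁻¹ * p.1 = q.2 * (p.2 : Qt t)⁻¹ := by
        rw [eq_mul_inv_iff_mul_eq, mul_assoc, e', inv_mul_cancel_left]
      have h2 : (q.1 : Qt t)⁻¹ * p.1 = 1 := mem_bot.1 (hinf.le (mem_inf.2
        ⟨Subgroup.mul_mem _ (Subgroup.inv_mem _ q.1.2) p.1.2,
          h1 ▸ Subgroup.mul_mem _ q.2.2 (Subgroup.inv_mem _ p.2.2)⟩))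
      have h3 : q.1 = p.1 := Subtype.ext (inv_mul_eq_one.1 h2)
      refine Prod.ext h3.symm (Subtype.ext ?_)
      rw [h3] at e'
      exact mul_left_cancel e'
    have := Nat.card_le_card_of_injective _ hinj
    rw [Nat.card_prod, hcardT, ← h.card_inf hL, hP] at this
    omega
  -- the only component
  have honly : ∀ K', Cfsg.IsComponent K' → K' = K := by
    intro K' hK'
    by_contra hne
    have hle : T ⊓ K' ≤ zpowers tq := hC2 ▸ le_inf inf_le_left
      (inf_le_right.trans (commutator_eq_bot_iff_le_centralizer.1 (comp_commute hK' hK hne)))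
    have := (Walter.card_inf A hK').trans ((card_le_of_le hle).trans_eq (Nat.card_zpowers tq))
    have h2 : orderOf tq ≤ 2 := Nat.le_of_dvd two_pos (orderOf_dvd_of_pow_eq_one (by
      rw [pow_two, ← map_mul, show (⟨t, h.le h.mem⟩ : ↥(centralizer ({t} : Set G))) * ⟨t, h.le h.mem⟩ = 1 from
        Subtype.ext (GenDihedral.mul_self_of_two h.two), map_one]))
    omega
  have hlayer : Cfsg.layer (Qt t) = K :=
    le_antisymm (sSup_le fun K' hK' => (honly K' hK').le) (comp_le_layer hK)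
  haveI hKn : K.Normal := hlayer ▸ (inferInstance : (Cfsg.layer (Qt t)).Normal)
  have hcentK : ∀ y ∈ centralizer (K : Set (Qt t)), y ∈ zpowers tq := by
    intro y hy
    haveI : (Cfsg.pCore 2 (Qt t)).Normal := (pCore_normal_and_isPGroup 2).1
    have hO2 : Cfsg.pCore 2 (Qt t) ≤ zpowers tq := hC2 ▸ le_inf (pCore_le A) (hlayer ▸
      commutator_eq_bot_iff_le_centralizer.1 (by
        rw [commutator_comm, ← fitting_eq_pCore A.core]; exact layer_commute_fitting))
    have hy2 : y ∈ centralizer (Cfsg.pCore 2 (Qt t) : Set (Qt t)) := mem_centralizer_iff.2 fun z hz => by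
      obtain ⟨i, rfl⟩ := mem_zpowers_iff.1 (hO2 hz)
      exact ((show Commute y tq from htc y).zpow_right i).eq.symm
    have hyF := (mem_of_centralizes A hy2 fun K' hK' => (honly K' hK') ▸ hy).1
    rw [hlayer] at hyF
    obtain ⟨l, hl, z, hz, rfl⟩ := mem_sup_of_normal_right.1 hyF
    have hzK : z ∈ centralizer (K : Set (Qt t)) :=
      (hO2.trans (zpowers_le.2 htK)) hz
    have hl1 : l ∈ (⊥ : Subgroup (Qt t)) := (comp_center A hK).le
      ⟨hl, (Subgroup.mul_mem_cancel_right _ hzK).1 hy⟩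
    rw [mem_bot.1 hl1, one_mul]
    exact hO2 hz
  -- split the quotient by the layer
  set π := QuotientGroup.mk' K
  set Z' := (zpowers tq).map π
  haveI : Z'.Normal := ⟨fun z hz g => by
    obtain ⟨g, rfl⟩ := QuotientGroup.mk'_surjective K g
    obtain ⟨w, hw, rfl⟩ := hz
    obtain ⟨i, rfl⟩ := mem_zpowers_iff.1 hw
    rw [← map_mul, ← map_inv, ← map_mul, ((show Commute g tq from htc g).zpow_right i).eq, mul_inv_cancel_right]
    exact mem_map_of_mem _ (zpow_mem (mem_zpowers tq) i)⟩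
  have hTZ : T.map π ≤ Z' := by
    rintro _ ⟨y, hy, rfl⟩
    obtain ⟨a, haT, haK, hac⟩ := exists_inner A hK hy
    refine ⟨a⁻¹ * y, hC2 ▸ mem_inf.2 ⟨mul_mem (inv_mem haT) hy, hac⟩, ?_⟩
    rw [map_mul, show π a⁻¹ = 1 from (QuotientGroup.eq_one_iff _).2 (inv_mem haK), one_mul]
  have hidx : ¬ 2 ∣ Z'.index := fun hd =>
    (h.sylow.mapSurjective (f := π) (QuotientGroup.mk'_surjective K)).not_dvd_index (hd.trans (index_dvd_of_le hTZ))
  obtain ⟨j, hj⟩ := IsPGroup.iff_card.1 ((h.sylow.isPGroup'.to_le (zpowers_le.2 htT)).map π)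
  obtain ⟨E', hE'⟩ := exists_right_complement'_of_coprime (N := Z') (by
    rw [hj]; exact ((Nat.Prime.coprime_iff_not_dvd Nat.prime_two).2 hidx).pow_left j)
  have htZ : π tq ∈ Z' := mem_map_of_mem π (mem_zpowers tq)
  have hKE : K ≤ E'.comap π := fun y hy => by
    rw [Subgroup.mem_comap, show π y = 1 from (QuotientGroup.eq_one_iff _).2 hy]; exact one_mem _
  refine ⟨F, iF, iFt, E'.comap π, K, h5, hq, ⟨le_top, le_top, fun y hy z _ => ?_, eq_bot_iff.2 ?_, ?_⟩,
    hKE, hKn, ?_, eq_bot_iff.2 ?_, ⟨f⟩⟩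
  · obtain ⟨i, rfl⟩ := mem_zpowers_iff.1 hy
    exact (((show Commute z tq from htc z)).zpow_right i).eq.symm
  · rintro y ⟨hy, hyE⟩
    have hyK : y ∈ K := (QuotientGroup.eq_one_iff _).1 (mem_bot.1 (hE'.disjoint.le_bot
      (mem_inf.2 ⟨mem_map_of_mem π hy, hyE⟩)))
    exact (comp_center A hK).le ⟨hyK, zpowers_le.2 htK hy⟩
  · refine eq_top_iff.2 fun y _ => ?_
    have hy : π y ∈ Z' ⊔ E' := hE'.sup_eq_top ▸ mem_top _
    obtain ⟨z, ⟨w, hw, rfl⟩, e, he, hze⟩ := mem_sup_of_normal_left.1 hy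
    have := mul_mem (mem_sup_left (T := E'.comap π) hw)
      (mem_sup_right (S := zpowers tq) (show w⁻¹ * y ∈ E'.comap π by
        rw [Subgroup.mem_comap, map_mul, map_inv, ← hze, inv_mul_cancel_left]; exact he))
    rwa [mul_inv_cancel_left] at this
  · have hr : K.relIndex (E'.comap π) = Nat.card E' := relIndex_comap_mk K E'
    have hE : Nat.card E' = Z'.index := hE'.symm.index_eq_card.symm
    rw [hr, hE]
    exact Nat.odd_iff.2 (Nat.two_dvd_ne_zero.1 hidx)
  · rintro y ⟨hyE, hy⟩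
    have hyz := hcentK y hy
    have hyK : y ∈ K := (QuotientGroup.eq_one_iff _).1 (mem_bot.1 (hE'.disjoint.le_bot
      (mem_inf.2 ⟨mem_map_of_mem π hyz, hyE⟩)))
    exact (comp_center A hK).le ⟨hyK, hy⟩

end Loc

/-- P1 + P2: the dichotomy, given the L-balance field. -/
theorem splitSpec_of_lift
    (hlift : ∀ {S : Sylow 2 G} {t L b}, Loc S t → (∀ x ∈ S, x * x = 1) → IsComp t L →
      b ∈ ZL (S : Subgroup G) L → b ≠ 1 →
      ∃ K, IsComp b K ∧ ZL (S : Subgroup G) K ≤ ZL (S : Subgroup G) L ∧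
        (S : Subgroup G) ⊓ L ≤ (S : Subgroup G) ⊓ K ∧
        L ⊓ centralizer ({b} : Set G) ≤ K ⊔ Oc b ⊔ (Oc t ⊓ centralizer ({b} : Set G))) :
    SplitSpec G := by
  haveI : Fact (Nat.Prime 2) := ⟨Nat.prime_two⟩
  intro hM S hex
  -- a component at an involution of `S`
  have hns : ∀ {g t : G}, ¬ Group.IsSolvable ↥(centralizer ({t} : Set G)) →
      ¬ Group.IsSolvable ↥(centralizer ({g * t * g⁻¹} : Set G)) := by
    intro g t hns hs
    refine hns ?_
    haveI : Group.IsSolvable ↥(centralizer ({MulAut.conj g t} : Set G)) := hs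
    let e := ((centralizer ({t} : Set G)).equivMapOfInjective (MulAut.conj g).toMonoidHom
      (MulAut.conj g).injective).trans (MulEquiv.subgroupCongr
        (centralizer_singleton_map_equiv (MulAut.conj g) t))
    exact Group.isSolvable_of_isSolvable_injective (f := e.toMonoidHom) e.injective
  obtain ⟨t₀, ht₀, hns₀⟩ := hex
  obtain ⟨R, hR⟩ := (IsPGroup.of_card (G := zpowers t₀) (n := 1)
    (by rw [Nat.card_zpowers, ht₀, pow_one])).exists_le_sylow
  obtain ⟨g, hg⟩ := MulAction.exists_smul_eq G R S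
  have htS : g * t₀ * g⁻¹ ∈ S := by
    rw [← hg, ← SetLike.mem_coe, Sylow.coe_smul]
    exact ⟨t₀, hR (mem_zpowers t₀), by simp⟩
  have ht2 : orderOf (g * t₀ * g⁻¹) = 2 := by rw [← MulAut.conj_apply, MulEquiv.orderOf_eq, ht₀]
  have h₁ : Loc S (g * t₀ * g⁻¹) := ⟨hM, htS, ht2⟩
  obtain ⟨L₁, hL₁⟩ := h₁.exists_comp_of_nonsolvable (hns hns₀)
  have hsq := h₁.elementary hL₁
  have hloc : ∀ {t}, t ∈ S → orderOf t = 2 → Loc S t := fun h1 h2 => ⟨hM, h1, h2⟩
  refine ⟨{ sq := hsq
            le_norm := fun h1 h2 hL => (hloc h1 h2).le_norm hL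
            mem_ZL := fun h1 h2 hL => (hloc h1 h2).mem_ZL_self hL
            split := fun h1 h2 hL => ⟨(hloc h1 h2).ZL_inf hL, (hloc h1 h2).ZL_sup hL⟩
            triv_ZL := fun h1 h2 hL hz => (((hloc h1 h2).mem_ZL_iff hL).1 hz).2
            dims := fun h1 h2 hL => ⟨(hloc h1 h2).card_ge hL, (hloc h1 h2).dims hsq hL⟩
            other := fun h1 h2 hL hL' hne => (hloc h1 h2).other hL hL' hne
            lift := fun h1 h2 hL hb hb1 => hlift (hloc h1 h2) hsq hL hb hb1
            generated := fun h1 h2 => (hloc h1 h2).generated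
            bal := fun h1 h2 hb hb2 hL hx hxt hc => (hloc h1 h2).bal hb hb2 hL hx hxt hc
            faith := fun h1 h2 hb hb2 hx hxt hall => (hloc h1 h2).faith hb hb2 hx hxt hall
            exists_comp := fun h1 h2 hn => (hloc h1 h2).exists_comp_of_nonsolvable hn }, ?_⟩
  by_cases hbig : ∀ {t L}, t ∈ S → orderOf t = 2 → IsComp t L →
      4 * Nat.card ↥((S : Subgroup G) ⊓ L) ^ 2 ≤ Nat.card ↥(S : Subgroup G)
  · exact Or.inr hbig
  push Not at hbig
  obtain ⟨t, L, ht, ht2', hL, hlt⟩ := hbig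
  obtain ⟨hP, hS8⟩ := ((hloc ht ht2').dims hsq hL).resolve_right (not_le.2 hlt)
  have htr := (hloc ht ht2').trans_of_small hsq hL hP hS8
  refine Or.inl ⟨hS8, hsq, fun x hx y hy hx1 hy1 => ?_, fun s hs hs1 => ?_⟩
  · obtain ⟨a, ha, rfl⟩ := htr x hx hx1
    obtain ⟨b, hb, rfl⟩ := htr y hy hy1
    exact ⟨b * a⁻¹, mul_mem hb (inv_mem ha), by group⟩
  · have hs2 : orderOf s = 2 := orderOf_eq_prime (by rw [pow_two]; exact hsq s hs) hs1
    have hnst : ¬ Group.IsSolvable ↥(centralizer ({t} : Set G)) := fun hs' => by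
      haveI := hs'
      haveI : Group.IsSolvable (Qt t) :=
        Group.isSolvable_of_surjective (f := qm t) (QuotientGroup.mk'_surjective _)
      exact comp_not_isSolvable ((hloc ht ht2').comp hL) inferInstance
    obtain ⟨a, -, rfl⟩ := htr s hs hs1
    obtain ⟨L', hL'⟩ := (hloc hs hs2).exists_comp_of_nonsolvable (hns hnst)
    refine (hloc hs hs2).data_of_small hL' ?_ hS8
    have h4 := (hloc hs hs2).card_ge hL'
    rcases (hloc hs hs2).dims hsq hL' with ⟨hP', -⟩ | hle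
    · exact hP'
    · rw [hS8] at hle
      have := Nat.mul_le_mul h4 h4
      rw [pow_two] at hle
      omega

end Cfsg.Lib.Walter
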